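import Mathlib

/-!
# A global form of the local criterion for freeness

Let `A` be a Noetherian ring and `N → P → C → 0` an exact sequence of finite `A`-modules with `P`
projective.  If `(A ⧸ m) ⊗ N → (A ⧸ m) ⊗ P` is injective for every maximal ideal `m`, then `C` is
projective.
-/

set_option autoImplicit false
universe u v

namespace Groth.Agent.Lib.Helper74

open TensorProduct

section

variable {A : Type u} [CommRing A] {N P C : Type v} [AddCommGroup N] [Module A N]
  [AddCommGroup P] [Module A P] [AddCommGroup C] [Module A C]

/-- Local step: after base change to the local ring `A_m`, the cokernel is free. -/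
theorem free_baseChange_localization_of_lTensor_quotient_injective
    [Module.Finite A N] [Module.Finite A P] [Module.Projective A P]
    (f : N →ₗ[A] P) (g : P →ₗ[A] C) (hg : Function.Surjective g) (h : Function.Exact f g)
    (m : Ideal A) [m.IsMaximal] (hf : Function.Injective (f.lTensor (A ⧸ m))) :
    Module.Free (Localization.AtPrime m) (Localization.AtPrime m ⊗[A] C) := by
  set R := Localization.AtPrime m with hR
  -- step 1: injectivity with the residue field of `A_m` in place of `A ⧸ m`
  have hbij := Ideal.bijective_algebraMap_quotient_residueField m
  let e : (A ⧸ m) ≃ₗ[A] m.ResidueField :=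
    LinearEquiv.ofBijective
      ((IsScalarTower.toAlgHom A (A ⧸ m) m.ResidueField).toLinearMap) hbij
  have hf' : Function.Injective (f.lTensor m.ResidueField) := by
    have hcomm : (f.lTensor m.ResidueField) ∘ₗ (e.toLinearMap.rTensor N) =
        (e.toLinearMap.rTensor P) ∘ₗ (f.lTensor (A ⧸ m)) := by
      rw [LinearMap.lTensor_comp_rTensor, LinearMap.rTensor_comp_lTensor]
    have h1 : Function.Injective ((f.lTensor m.ResidueField) ∘ₗ (e.toLinearMap.rTensor N)) := by
      rw [hcomm]
      exact ((e.rTensor P).injective).comp hf
    have h2 : Function.Surjective (e.toLinearMap.rTensor N) := (e.rTensor N).surjective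
    intro a b hab
    obtain ⟨a', rfl⟩ := h2 a
    obtain ⟨b', rfl⟩ := h2 b
    exact congrArg _ (h1 hab)
  -- step 2: pass to the base change
  have hex : Function.Exact (f.baseChange R) (g.baseChange R) :=
    Module.Flat.lTensor_exact R h
  have hsurj : Function.Surjective (g.baseChange R) := LinearMap.lTensor_surjective R hg
  have : Module.Free R (R ⊗[A] P) := Module.free_of_flat_of_isLocalRing
  have hinj : Function.Injective ((f.baseChange R).lTensor (IsLocalRing.ResidueField R)) := by
    have hc := TensorProduct.AlgebraTensorModule.lTensor_comp_cancelBaseChange
      (R := A) (A := R) (B := R) (M := IsLocalRing.ResidueField R) f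
    intro a b hab
    have h3 := congrArg (TensorProduct.AlgebraTensorModule.cancelBaseChange A R R
      (IsLocalRing.ResidueField R) P) hab
    have key : ∀ t, (TensorProduct.AlgebraTensorModule.cancelBaseChange A R R
        (IsLocalRing.ResidueField R) P) ((f.baseChange R).lTensor (IsLocalRing.ResidueField R) t) =
        f.lTensor (IsLocalRing.ResidueField R) ((TensorProduct.AlgebraTensorModule.cancelBaseChange
          A R R (IsLocalRing.ResidueField R) N) t) := by
      intro t
      exact (LinearMap.congr_fun hc t).symm
    rw [key, key] at h3
    exact (TensorProduct.AlgebraTensorModule.cancelBaseChange A R R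
      (IsLocalRing.ResidueField R) N).injective (hf' h3)
  exact Module.free_of_lTensor_residueField_injective (f.baseChange R) (g.baseChange R)
    hsurj hex hinj

/-- Global form of the local criterion: the cokernel of `N → P` is projective as soon as
`(A ⧸ m) ⊗ N → (A ⧸ m) ⊗ P` is injective for all maximal ideals `m`. -/
theorem projective_of_forall_maximal_lTensor_quotient_injective [IsNoetherianRing A]
    [Module.Finite A N] [Module.Finite A P] [Module.Projective A P]
    (f : N →ₗ[A] P) (g : P →ₗ[A] C) (hg : Function.Surjective g) (h : Function.Exact f g)
    (hf : ∀ (m : Ideal A) [m.IsMaximal], Function.Injective (f.lTensor (A ⧸ m))) :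
    Module.Projective A C := by
  have hfin : Module.Finite A C := Module.Finite.of_surjective g hg
  have hfp : Module.FinitePresentation A C := Module.finitePresentation_of_finite A C
  have hflat : Module.Flat A C := by
    apply Module.flat_of_localized_maximal
    intro m hm
    have hfree := free_baseChange_localization_of_lTensor_quotient_injective f g hg h m (hf m)
    have h1 : Module.Flat A (Localization.AtPrime m ⊗[A] C) :=
      Module.Flat.trans A (Localization.AtPrime m) _
    exact Module.Flat.of_linearEquiv
      ((LocalizedModule.equivTensorProduct m.primeCompl C).restrictScalars A)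
  exact Module.Flat.projective_of_finitePresentation

end

section prime

variable {A : Type u} [CommRing A] {N P C : Type v} [AddCommGroup N] [Module A N]
  [AddCommGroup P] [Module A P] [AddCommGroup C] [Module A C]

/-- Injectivity of `κ(p) ⊗_{A_p} (A_p ⊗ f)` is equivalent to injectivity of `κ(p) ⊗_A f`. -/
theorem lTensor_residueField_baseChange_injective_iff (f : N →ₗ[A] P) (p : Ideal A) [p.IsPrime] :
    Function.Injective ((f.baseChange (Localization.AtPrime p)).lTensor
      (IsLocalRing.ResidueField (Localization.AtPrime p))) ↔
    Function.Injective (f.lTensor p.ResidueField) := by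
  set R := Localization.AtPrime p with hR
  have hc := TensorProduct.AlgebraTensorModule.lTensor_comp_cancelBaseChange
    (R := A) (A := R) (B := R) (M := IsLocalRing.ResidueField R) f
  have key : ∀ t, (TensorProduct.AlgebraTensorModule.cancelBaseChange A R R
      (IsLocalRing.ResidueField R) P) ((f.baseChange R).lTensor (IsLocalRing.ResidueField R) t) =
      f.lTensor (IsLocalRing.ResidueField R) ((TensorProduct.AlgebraTensorModule.cancelBaseChange
        A R R (IsLocalRing.ResidueField R) N) t) := by
    intro t
    exact (LinearMap.congr_fun hc t).symm
  constructor
  · intro hinj a b hab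
    obtain ⟨a', rfl⟩ := (TensorProduct.AlgebraTensorModule.cancelBaseChange A R R
      (IsLocalRing.ResidueField R) N).surjective a
    obtain ⟨b', rfl⟩ := (TensorProduct.AlgebraTensorModule.cancelBaseChange A R R
      (IsLocalRing.ResidueField R) N).surjective b
    rw [← key, ← key] at hab
    exact congrArg _ (hinj ((TensorProduct.AlgebraTensorModule.cancelBaseChange A R R
      (IsLocalRing.ResidueField R) P).injective hab))
  · intro hf' a b hab
    have h3 := congrArg (TensorProduct.AlgebraTensorModule.cancelBaseChange A R R
      (IsLocalRing.ResidueField R) P) hab
    rw [key, key] at h3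
    exact (TensorProduct.AlgebraTensorModule.cancelBaseChange A R R
      (IsLocalRing.ResidueField R) N).injective (hf' h3)

/-- Local criterion at a prime: if `N → P → C → 0` is exact with `N` finite, `P` finite projective
and `κ(p) ⊗ N → κ(p) ⊗ P` injective, then `C_p` is free over `A_p`. -/
theorem free_baseChange_localization_of_lTensor_residueField_injective
    [Module.Finite A N] [Module.Finite A P] [Module.Projective A P]
    (f : N →ₗ[A] P) (g : P →ₗ[A] C) (hg : Function.Surjective g) (h : Function.Exact f g)
    (p : Ideal A) [p.IsPrime] (hf' : Function.Injective (f.lTensor p.ResidueField)) :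
    Module.Free (Localization.AtPrime p) (Localization.AtPrime p ⊗[A] C) := by
  set R := Localization.AtPrime p with hR
  have hex : Function.Exact (f.baseChange R) (g.baseChange R) :=
    Module.Flat.lTensor_exact R h
  have hsurj : Function.Surjective (g.baseChange R) := LinearMap.lTensor_surjective R hg
  have : Module.Free R (R ⊗[A] P) := Module.free_of_flat_of_isLocalRing
  exact Module.free_of_lTensor_residueField_injective (f.baseChange R) (g.baseChange R)
    hsurj hex ((lTensor_residueField_baseChange_injective_iff f p).2 hf')

/-- Vanishing of `Tor₁(κ(p), C)` when `C_p` is flat: for a short exact sequence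
`0 → N → P → C → 0` with `C_p` flat over `A_p`, the map `κ(p) ⊗ N → κ(p) ⊗ P` is injective. -/
theorem lTensor_residueField_injective_of_flat_baseChange
    (f : N →ₗ[A] P) (g : P →ₗ[A] C) (hf : Function.Injective f) (hg : Function.Surjective g)
    (h : Function.Exact f g) (p : Ideal A) [p.IsPrime]
    [Module.Flat (Localization.AtPrime p) (Localization.AtPrime p ⊗[A] C)] :
    Function.Injective (f.lTensor p.ResidueField) := by
  set R := Localization.AtPrime p with hR
  have hex : Function.Exact (f.baseChange R) (g.baseChange R) :=
    Module.Flat.lTensor_exact R h
  have hsurj : Function.Surjective (g.baseChange R) := LinearMap.lTensor_surjective R hg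
  have hinj : Function.Injective (f.baseChange R) :=
    Module.Flat.lTensor_preserves_injective_linearMap f hf
  rw [← lTensor_residueField_baseChange_injective_iff]
  exact LinearMap.lTensor_injective_of_exact_of_flat (g.baseChange R) hsurj (f.baseChange R) hinj
    hex _

end prime

end Groth.Agent.Lib.Helper74
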