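import Mathlib.RingTheory.Flat.Equalizer
import Mathlib.RingTheory.Flat.Tensor

/-!
The kernel of a surjection between flat modules is flat.
-/

set_option autoImplicit false
universe u v

namespace Groth.Agent.Lib.Helper74

open TensorProduct

/-- If `0 → K → F → Q → 0` is exact with `F` and `Q` flat, then `K` is flat. -/
theorem flat_of_exact_of_flat_of_flat {R : Type u} [CommRing R] {K F Q : Type v}
    [AddCommGroup K] [Module R K] [AddCommGroup F] [Module R F] [AddCommGroup Q] [Module R Q]
    (i : K →ₗ[R] F) (q : F →ₗ[R] Q) (hi : Function.Injective i) (hq : Function.Surjective q)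
    (hex : Function.Exact i q) [Module.Flat R F] [Module.Flat R Q] : Module.Flat R K := by
  rw [Module.Flat.iff_rTensor_injective']
  intro I
  have h1 : Function.Injective (i.lTensor I) :=
    LinearMap.lTensor_injective_of_exact_of_flat q hq i hi hex I
  have h2 : Function.Injective (I.subtype.rTensor F) :=
    Module.Flat.rTensor_preserves_injective_linearMap _ I.subtype_injective
  have h3 : (I.subtype.rTensor F) ∘ₗ (i.lTensor I) = (i.lTensor R) ∘ₗ (I.subtype.rTensor K) := by
    rw [LinearMap.rTensor_comp_lTensor, LinearMap.lTensor_comp_rTensor]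
  have h4 : Function.Injective ((i.lTensor R) ∘ₗ (I.subtype.rTensor K)) := by
    rw [← h3]
    exact h2.comp h1
  exact Function.Injective.of_comp h4

/-- If `X₁ → X₂ → X₃ → X₄` is exact at `X₂` and `X₃` and the image of `X₃ → X₄` is flat, then
tensoring with any module `M` keeps exactness at `X₂`. -/
theorem rTensor_exact_of_flat_range {A : Type u} [CommRing A] {X₁ X₂ X₃ X₄ : Type v}
    [AddCommGroup X₁] [Module A X₁] [AddCommGroup X₂] [Module A X₂]
    [AddCommGroup X₃] [Module A X₃] [AddCommGroup X₄] [Module A X₄]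
    (M : Type v) [AddCommGroup M] [Module A M]
    (d₁ : X₁ →ₗ[A] X₂) (d₂ : X₂ →ₗ[A] X₃) (d₃ : X₃ →ₗ[A] X₄)
    (h₁₂ : Function.Exact d₁ d₂) (h₂₃ : Function.Exact d₂ d₃)
    [Module.Flat A (LinearMap.range d₃)] :
    Function.Exact (d₁.rTensor M) (d₂.rTensor M) := by
  set d₂' : X₂ →ₗ[A] LinearMap.range d₂ := d₂.rangeRestrict with hd₂'
  set ι : LinearMap.range d₂ →ₗ[A] X₃ := (LinearMap.range d₂).subtype with hι
  have hcomp : d₂ = ι ∘ₗ d₂' := (LinearMap.subtype_comp_codRestrict _ _ _).symm
  have hιinj : Function.Injective (ι.rTensor M) := by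
    rw [← LinearMap.lTensor_inj_iff_rTensor_inj]
    refine LinearMap.lTensor_injective_of_exact_of_flat d₃.rangeRestrict
      (LinearMap.surjective_rangeRestrict d₃) ι (LinearMap.range d₂).injective_subtype ?_ M
    intro y
    constructor
    · intro hy
      have hy' : d₃ y = 0 := congrArg Subtype.val hy
      obtain ⟨x, hx⟩ := (h₂₃ y).1 hy'
      exact ⟨⟨y, ⟨x, hx⟩⟩, rfl⟩
    · rintro ⟨z, rfl⟩
      apply Subtype.ext
      obtain ⟨x, hx⟩ := z.2
      show d₃ (z : X₃) = 0
      rw [← hx]
      exact h₂₃.apply_apply_eq_zero x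
  have hex' : Function.Exact d₁ d₂' := by
    intro x
    rw [← h₁₂ x]
    constructor
    · intro hx
      exact congrArg Subtype.val hx
    · intro hx
      exact Subtype.ext hx
  have hex'' : Function.Exact (d₁.rTensor M) (d₂'.rTensor M) :=
    rTensor_exact M hex' (LinearMap.surjective_rangeRestrict d₂)
  have hcomp' : d₂.rTensor M = (ι.rTensor M) ∘ₗ (d₂'.rTensor M) := by
    rw [← LinearMap.rTensor_comp, ← hcomp]
  intro x
  rw [hcomp', LinearMap.comp_apply, ← hex'' x]
  constructor
  · intro hx
    apply hιinj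
    rw [hx, map_zero]
  · intro hx
    rw [hx, map_zero]

/-- A module which is a "biproduct" of two flat modules (given by two retraction pairs whose
idempotents sum to the identity) is flat. -/
theorem flat_of_two_retracts {R : Type u} [CommRing R] {X F₁ F₂ : Type v}
    [AddCommGroup X] [Module R X] [AddCommGroup F₁] [Module R F₁] [AddCommGroup F₂] [Module R F₂]
    (r₁ : X →ₗ[R] F₁) (i₁ : F₁ →ₗ[R] X) (r₂ : X →ₗ[R] F₂) (i₂ : F₂ →ₗ[R] X)
    (h : i₁ ∘ₗ r₁ + i₂ ∘ₗ r₂ = LinearMap.id) [Module.Flat R F₁] [Module.Flat R F₂] :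
    Module.Flat R X := by
  rw [Module.Flat.iff_rTensor_injective']
  intro I
  rw [injective_iff_map_eq_zero]
  intro t ht
  have key : ∀ {F : Type v} [AddCommGroup F] [Module R F] [Module.Flat R F] (r : X →ₗ[R] F),
      r.lTensor I t = 0 := by
    intro F _ _ _ r
    have hinj : Function.Injective (I.subtype.rTensor F) :=
      Module.Flat.rTensor_preserves_injective_linearMap _ I.subtype_injective
    apply hinj
    rw [map_zero, ← LinearMap.comp_apply, LinearMap.rTensor_comp_lTensor,
      ← LinearMap.lTensor_comp_rTensor, LinearMap.comp_apply, ht, map_zero]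
  have e : t = (i₁ ∘ₗ r₁ + i₂ ∘ₗ r₂).lTensor I t := by
    rw [h, LinearMap.lTensor_id, LinearMap.id_apply]
  rw [e, LinearMap.lTensor_add, LinearMap.add_apply, LinearMap.lTensor_comp,
    LinearMap.lTensor_comp, LinearMap.comp_apply, LinearMap.comp_apply, key r₁, key r₂,
    map_zero, map_zero, add_zero]

end Groth.Agent.Lib.Helper74
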