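import Mathlib

/-!
# Lengths of quotients of lattices over a one-dimensional Noetherian domain
-/

set_option autoImplicit false
universe u v

namespace Groth.Agent.Lib.Helper74

section general

variable {A : Type u} [CommRing A] {V : Type v} [AddCommGroup V] [Module A V]

/-- Additivity of colength along a chain `L ≤ P ≤ M` of submodules. -/
theorem length_quotient_submoduleOf_add {L P M : Submodule A V} (hLP : L ≤ P) (hPM : P ≤ M) :
    Module.length A (↥M ⧸ L.submoduleOf M) =
      Module.length A (↥P ⧸ L.submoduleOf P) + Module.length A (↥M ⧸ P.submoduleOf M) := by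
  have h1 : L.submoduleOf P ≤ Submodule.comap (Submodule.inclusion hPM) (L.submoduleOf M) := by
    intro x hx
    exact hx
  have h2 : L.submoduleOf M ≤ P.submoduleOf M := by
    intro x hx
    exact hLP hx
  let f : (↥P ⧸ L.submoduleOf P) →ₗ[A] (↥M ⧸ L.submoduleOf M) :=
    Submodule.mapQ _ _ (Submodule.inclusion hPM) h1
  let g : (↥M ⧸ L.submoduleOf M) →ₗ[A] (↥M ⧸ P.submoduleOf M) := Submodule.factor h2
  have hf : Function.Injective f := by
    rw [← LinearMap.ker_eq_bot, LinearMap.ker_eq_bot']
    intro x hx
    obtain ⟨p, rfl⟩ := Submodule.Quotient.mk_surjective _ x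
    rw [Submodule.Quotient.mk_eq_zero]
    have : Submodule.Quotient.mk (Submodule.inclusion hPM p) = (0 : ↥M ⧸ L.submoduleOf M) := hx
    rw [Submodule.Quotient.mk_eq_zero] at this
    exact this
  have hg : Function.Surjective g := Submodule.factor_surjective h2
  have hex : Function.Exact f g := by
    intro y
    obtain ⟨m, rfl⟩ := Submodule.Quotient.mk_surjective _ y
    constructor
    · intro h0
      have h0' : Submodule.Quotient.mk m = (0 : ↥M ⧸ P.submoduleOf M) := h0
      rw [Submodule.Quotient.mk_eq_zero] at h0'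
      refine ⟨Submodule.Quotient.mk ⟨m.1, h0'⟩, ?_⟩
      rfl
    · rintro ⟨x, hx⟩
      obtain ⟨p, rfl⟩ := Submodule.Quotient.mk_surjective _ x
      rw [← hx]
      change Submodule.Quotient.mk (Submodule.inclusion hPM p) = (0 : ↥M ⧸ P.submoduleOf M)
      rw [Submodule.Quotient.mk_eq_zero]
      exact p.2
  exact Module.length_eq_add_of_exact f g hf hg hex

end general

section dimOne

variable {A : Type u} [CommRing A] [IsDomain A] [IsNoetherianRing A] [Ring.KrullDimLE 1 A]

/-- A finite module over a Noetherian domain of dimension `≤ 1` killed by a nonzero element has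
finite length. -/
theorem isFiniteLength_of_forall_smul_eq_zero {Q : Type v} [AddCommGroup Q] [Module A Q]
    [Module.Finite A Q] (a : A) (ha : a ≠ 0) (h : ∀ q : Q, a • q = 0) : IsFiniteLength A Q := by
  have hx : a ∈ nonZeroDivisors A := mem_nonZeroDivisors_of_ne_zero ha
  have hart : IsArtinianRing (A ⧸ Ideal.span {a}) := by
    rw [isArtinianRing_iff_krullDimLE_zero, Ring.KrullDimLE, Order.krullDimLE_iff,
      ← ENat.WithBot.add_le_add_one_right_iff, Nat.cast_zero, zero_add]
    exact (ringKrullDim_quotient_succ_le_of_nonZeroDivisor hx).trans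
      (Order.KrullDimLE.krullDim_le)
  have htors : Module.IsTorsionBySet A Q (Ideal.span {a} : Ideal A) :=
    (Module.isTorsionBySet_span_singleton_iff a).mpr h
  let := htors.module
  have : Module.Finite (A ⧸ Ideal.span {a}) Q := Module.Finite.of_restrictScalars_finite A _ _
  have h1 : IsArtinian (A ⧸ Ideal.span {a}) Q := inferInstance
  have h2 : IsArtinian A Q :=
    isArtinian_of_surjective_algebraMap (R := A ⧸ Ideal.span {a}) Ideal.Quotient.mk_surjective
  rw [isFiniteLength_iff_isNoetherian_isArtinian]
  exact ⟨inferInstance, h2⟩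

end dimOne

section lattice

variable {A : Type u} [CommRing A] [IsDomain A] (K : Type u) [Field K] [Algebra A K]
  [IsFractionRing A K] {V : Type v} [AddCommGroup V] [Module K V] [Module A V] [IsScalarTower A K V]

/-- Every vector has a nonzero multiple in a submodule spanning `V` over `K`. -/
theorem exists_ne_zero_smul_mem_of_span_eq_top (M' : Submodule A V)
    (hM' : Submodule.span K (M' : Set V) = ⊤) (v : V) : ∃ a : A, a ≠ 0 ∧ a • v ∈ M' := by
  have hv : v ∈ Submodule.span K (M' : Set V) := by rw [hM']; trivial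
  induction hv using Submodule.span_induction with
  | mem x hx => exact ⟨1, one_ne_zero, by simpa using hx⟩
  | zero => exact ⟨1, one_ne_zero, by simp⟩
  | add x y _ _ hx hy =>
    obtain ⟨a, ha, hax⟩ := hx
    obtain ⟨b, hb, hby⟩ := hy
    refine ⟨a * b, mul_ne_zero ha hb, ?_⟩
    rw [smul_add]
    refine M'.add_mem ?_ ?_
    · rw [mul_comm, mul_smul]; exact M'.smul_mem b hax
    · rw [mul_smul]; exact M'.smul_mem a hby
  | smul k x _ hx =>
    obtain ⟨a, ha, hax⟩ := hx
    obtain ⟨⟨r, s⟩, hrs⟩ := IsLocalization.surj (nonZeroDivisors A) k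
    refine ⟨a * (s : A), mul_ne_zero ha (nonZeroDivisors.ne_zero s.2), ?_⟩
    have h1 : (a * (s : A)) • (k • x) = r • (a • x) := by
      rw [mul_smul, ← algebraMap_smul K (s : A) (k • x), ← mul_smul, mul_comm, hrs,
        algebraMap_smul, smul_comm]
    rw [h1]
    exact M'.smul_mem r hax

/-- A finitely generated submodule has a nonzero multiple inside any submodule spanning `V`. -/
theorem exists_ne_zero_smul_le_of_fg_of_span_eq_top (M M' : Submodule A V) (hM : M.FG)
    (hM' : Submodule.span K (M' : Set V) = ⊤) : ∃ a : A, a ≠ 0 ∧ ∀ m ∈ M, a • m ∈ M' := by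
  classical
  obtain ⟨S, rfl⟩ := hM
  choose c hc0 hc using exists_ne_zero_smul_mem_of_span_eq_top K M' hM'
  refine ⟨∏ s ∈ S, c s, Finset.prod_ne_zero_iff.mpr fun s _ => hc0 s, ?_⟩
  intro m hm
  induction hm using Submodule.span_induction with
  | mem x hx =>
    have hx' : x ∈ S := hx
    rw [← Finset.mul_prod_erase S c hx', mul_comm, mul_smul]
    exact M'.smul_mem _ (hc x)
  | zero => simp
  | add x y _ _ hx hy => rw [smul_add]; exact M'.add_mem hx hy
  | smul r x _ hx => rw [smul_comm]; exact M'.smul_mem r hx

variable [IsNoetherianRing A] [Ring.KrullDimLE 1 A]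

/-- If `L ≤ M` are submodules of `V` with `M` finitely generated and `L` spanning `V`, then `M ⧸ L`
has finite length. -/
theorem length_quotient_submoduleOf_lt_top (L M : Submodule A V) (hM : M.FG)
    (hL : Submodule.span K (L : Set V) = ⊤) :
    Module.length A (↥M ⧸ L.submoduleOf M) < ⊤ := by
  obtain ⟨a, ha, haM⟩ := exists_ne_zero_smul_le_of_fg_of_span_eq_top K M L hM hL
  have : Module.Finite A M := Module.Finite.iff_fg.mpr hM
  have hfl : IsFiniteLength A (↥M ⧸ L.submoduleOf M) := by
    apply isFiniteLength_of_forall_smul_eq_zero a ha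
    intro q
    obtain ⟨m, rfl⟩ := Submodule.Quotient.mk_surjective _ q
    rw [← Submodule.Quotient.mk_smul, Submodule.Quotient.mk_eq_zero]
    exact haM m.1 m.2
  exact (Module.length_ne_top_iff.mpr hfl).lt_top

end lattice

end Groth.Agent.Lib.Helper74
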