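import Mathlib
import Groth.Prelude.Def_Tame
import Groth.Agent.Lib.Helper74.LatticeLength

/-!
# Distance of lattices and the order of the determinant

For a one-dimensional Noetherian domain `A` with fraction field `K`, a finite-dimensional
`K`-vector space `V`, a lattice `M ⊆ V` and `φ ∈ GL(V)` we show
`length (M/(M ∩ φM)) - length (φM/(M ∩ φM)) = ord (det φ)`.
-/

set_option autoImplicit false
set_option linter.unusedSectionVars false
universe u v

namespace Groth.Agent.Lib.Helper74

section ord

variable (A : Type u) [CommRing A] [IsDomain A] [IsNoetherianRing A] [Ring.KrullDimLE 1 A]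
  (K : Type v) [Field K] [Algebra A K] [IsFractionRing A K]

theorem ordFracInt_eq (x : K) :
    CycAlg.ordFrac A K x =
      WithZero.recZeroCoe (motive := fun _ => ℤ) 0 (fun z => Multiplicative.toAdd z)
        (Ring.ordFrac A x) := by
  unfold CycAlg.ordFrac
  rw [dif_pos ⟨inferInstance, inferInstance, inferInstance, inferInstance⟩]

theorem ordFracInt_mul {x y : K} (hx : x ≠ 0) (hy : y ≠ 0) :
    CycAlg.ordFrac A K (x * y) = CycAlg.ordFrac A K x + CycAlg.ordFrac A K y := by
  rw [ordFracInt_eq, ordFracInt_eq, ordFracInt_eq, map_mul]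
  have h1 : Ring.ordFrac A x ≠ 0 := (map_ne_zero (Ring.ordFrac A (K := K))).mpr hx
  have h2 : Ring.ordFrac A y ≠ 0 := (map_ne_zero (Ring.ordFrac A (K := K))).mpr hy
  obtain ⟨a, ha⟩ := WithZero.ne_zero_iff_exists.mp h1
  obtain ⟨b, hb⟩ := WithZero.ne_zero_iff_exists.mp h2
  rw [← ha, ← hb, ← WithZero.coe_mul, WithZero.recZeroCoe_coe, WithZero.recZeroCoe_coe,
    WithZero.recZeroCoe_coe, toAdd_mul]

theorem ordFracInt_one : CycAlg.ordFrac A K (1 : K) = 0 := by
  rw [ordFracInt_eq, map_one]
  rfl

theorem ordFracInt_inv {x : K} (hx : x ≠ 0) :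
    CycAlg.ordFrac A K x⁻¹ = - CycAlg.ordFrac A K x := by
  have h := ordFracInt_mul A K hx (inv_ne_zero hx)
  rw [mul_inv_cancel₀ hx, ordFracInt_one] at h
  linarith

theorem ordFracInt_algebraMap {a : A} (ha : a ≠ 0) :
    CycAlg.ordFrac A K (algebraMap A K a) =
      ((Module.length A (A ⧸ Ideal.span {a})).toNat : ℤ) := by
  have hnzd : a ∈ nonZeroDivisors A := mem_nonZeroDivisors_of_ne_zero ha
  have hfin : Ring.ord A a ≠ ⊤ := Ring.ord_ne_top hnzd
  have hn : Ring.ord A a = ((Ring.ord A a).toNat : ℕ∞) := (ENat.natCast_toNat hfin).symm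
  rw [ordFracInt_eq, Ring.ordFrac_eq_ord A ha, Ring.ordMonoidWithZeroHom_eq_coe A hnzd hn]
  rfl

theorem ordFracInt_prod {ι : Type*} (s : Finset ι) (f : ι → K) (hf : ∀ i ∈ s, f i ≠ 0) :
    CycAlg.ordFrac A K (∏ i ∈ s, f i) = ∑ i ∈ s, CycAlg.ordFrac A K (f i) := by
  classical
  induction s using Finset.induction_on with
  | empty => simpa using ordFracInt_one A K
  | insert i s hi ih =>
    rw [Finset.prod_insert hi, Finset.sum_insert hi,
      ordFracInt_mul A K (hf i (Finset.mem_insert_self i s))
        (Finset.prod_ne_zero_iff.mpr fun j hj => hf j (Finset.mem_insert_of_mem hj)),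
      ih fun j hj => hf j (Finset.mem_insert_of_mem hj)]

end ord

section dist

variable {A : Type u} [CommRing A] {V : Type v} [AddCommGroup V] [Module A V]

/-- The (signed) distance of two submodules. -/
noncomputable def latDist (M M' : Submodule A V) : ℤ :=
  ((Module.length A (↥M ⧸ (M ⊓ M').submoduleOf M)).toNat : ℤ) -
    ((Module.length A (↥M' ⧸ (M ⊓ M').submoduleOf M')).toNat : ℤ)

theorem latDist_self (M : Submodule A V) : latDist M M = 0 := by
  unfold latDist
  simp

/-- Transport of colength along a linear equivalence. -/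
theorem length_quotient_submoduleOf_map (ψ : V ≃ₗ[A] V) (L M : Submodule A V) :
    Module.length A (↥(M.map ψ.toLinearMap) ⧸
        (L.map ψ.toLinearMap).submoduleOf (M.map ψ.toLinearMap)) =
      Module.length A (↥M ⧸ L.submoduleOf M) := by
  symm
  refine LinearEquiv.length_eq (Submodule.Quotient.equiv _ _ (ψ.submoduleMap M) ?_)
  ext ⟨y, hy⟩
  simp only [Submodule.mem_map, Submodule.submoduleOf, Submodule.mem_comap, Submodule.subtype_apply,
    Subtype.exists]
  constructor
  · rintro ⟨x, hxM, hxL, hxy⟩
    refine ⟨x, hxL, ?_⟩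
    exact congrArg Subtype.val hxy
  · rintro ⟨x, hxL, hxy⟩
    obtain ⟨m, hm, hmy⟩ := hy
    have hxm : x = m := ψ.injective (hxy.trans hmy.symm)
    subst hxm
    refine ⟨x, hm, hxL, ?_⟩
    apply Subtype.ext
    exact hxy

theorem latDist_map (ψ : V ≃ₗ[A] V) (M M' : Submodule A V) :
    latDist (M.map ψ.toLinearMap) (M'.map ψ.toLinearMap) = latDist M M' := by
  unfold latDist
  rw [← Submodule.map_inf _ ψ.injective, length_quotient_submoduleOf_map,
    length_quotient_submoduleOf_map]

theorem latDist_of_le {M M' : Submodule A V} (h : M' ≤ M) :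
    latDist M M' = ((Module.length A (↥M ⧸ M'.submoduleOf M)).toNat : ℤ) := by
  unfold latDist
  rw [inf_eq_right.mpr h]
  simp

end dist

section cocycle

variable {A : Type u} [CommRing A] [IsDomain A] [IsNoetherianRing A] [Ring.KrullDimLE 1 A]
  (K : Type u) [Field K] [Algebra A K] [IsFractionRing A K]
  {V : Type v} [AddCommGroup V] [Module K V] [Module A V] [IsScalarTower A K V]

/-- Lattices: finitely generated `A`-submodules spanning `V` over `K`. -/
def IsLat (M : Submodule A V) : Prop := M.FG ∧ Submodule.span K (M : Set V) = ⊤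

theorem IsLat.inf₃ {M₁ M₂ M₃ : Submodule A V} (h₁ : IsLat K M₁) (h₂ : IsLat K M₂)
    (h₃ : IsLat K M₃) : Submodule.span K ((M₁ ⊓ M₂ ⊓ M₃ : Submodule A V) : Set V) = ⊤ := by
  obtain ⟨a, ha, h12⟩ := exists_ne_zero_smul_le_of_fg_of_span_eq_top K M₁ M₂ h₁.1 h₂.2
  obtain ⟨b, hb, h13⟩ := exists_ne_zero_smul_le_of_fg_of_span_eq_top K M₁ M₃ h₁.1 h₃.2
  rw [eq_top_iff, ← h₁.2, Submodule.span_le]
  intro m hm
  have hmem : (a * b) • m ∈ M₁ ⊓ M₂ ⊓ M₃ := by
    refine ⟨⟨M₁.smul_mem _ hm, ?_⟩, ?_⟩
    · rw [mul_comm, mul_smul]; exact M₂.smul_mem b (h12 m hm)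
    · rw [mul_smul]; exact M₃.smul_mem a (h13 m hm)
  have hab : algebraMap A K (a * b) ≠ 0 := by
    rw [Ne, map_eq_zero_iff _ (IsFractionRing.injective A K)]
    exact mul_ne_zero ha hb
  have : m = (algebraMap A K (a * b))⁻¹ • ((a * b) • m) := by
    rw [← algebraMap_smul K (a * b) m, smul_smul, inv_mul_cancel₀ hab, one_smul]
  rw [this]
  exact Submodule.smul_mem _ _ (Submodule.subset_span hmem)

/-- The cocycle relation for the distance of lattices. -/
theorem latDist_add {M₁ M₂ M₃ : Submodule A V} (h₁ : IsLat K M₁) (h₂ : IsLat K M₂)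
    (h₃ : IsLat K M₃) : latDist M₁ M₃ = latDist M₁ M₂ + latDist M₂ M₃ := by
  unfold latDist
  set L : Submodule A V := M₁ ⊓ M₂ ⊓ M₃ with hL
  have hspL : Submodule.span K (L : Set V) = ⊤ := IsLat.inf₃ K h₁ h₂ h₃
  have hL₁ : L ≤ M₁ := inf_le_left.trans inf_le_left
  have hL₂ : L ≤ M₂ := inf_le_left.trans inf_le_right
  have hL₃ : L ≤ M₃ := inf_le_right
  have hL₁₂ : L ≤ M₁ ⊓ M₂ := inf_le_left
  have hL₁₃ : L ≤ M₁ ⊓ M₃ := le_inf hL₁ hL₃
  have hL₂₃ : L ≤ M₂ ⊓ M₃ := le_inf hL₂ hL₃
  have fin₁ := length_quotient_submoduleOf_lt_top K L M₁ h₁.1 hspL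
  have fin₂ := length_quotient_submoduleOf_lt_top K L M₂ h₂.1 hspL
  have fin₃ := length_quotient_submoduleOf_lt_top K L M₃ h₃.1 hspL
  have a₁₂ := length_quotient_submoduleOf_add hL₁₂ (inf_le_left : M₁ ⊓ M₂ ≤ M₁)
  have a₂₁ := length_quotient_submoduleOf_add hL₁₂ (inf_le_right : M₁ ⊓ M₂ ≤ M₂)
  have a₁₃ := length_quotient_submoduleOf_add hL₁₃ (inf_le_left : M₁ ⊓ M₃ ≤ M₁)
  have a₃₁ := length_quotient_submoduleOf_add hL₁₃ (inf_le_right : M₁ ⊓ M₃ ≤ M₃)
  have a₂₃ := length_quotient_submoduleOf_add hL₂₃ (inf_le_left : M₂ ⊓ M₃ ≤ M₂)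
  have a₃₂ := length_quotient_submoduleOf_add hL₂₃ (inf_le_right : M₂ ⊓ M₃ ≤ M₃)
  have key : ∀ {x y z : ℕ∞}, x < ⊤ → x = y + z →
      (x.toNat : ℤ) = (y.toNat : ℤ) + (z.toNat : ℤ) := by
    intro x y z hx hxyz
    have hy : y ≠ ⊤ := by
      rintro rfl
      rw [top_add] at hxyz
      exact hx.ne hxyz
    have hz : z ≠ ⊤ := by
      rintro rfl
      rw [add_top] at hxyz
      exact hx.ne hxyz
    rw [hxyz, ENat.toNat_add hy hz]
    push_cast
    rfl
  have k₁₂ := key fin₁ a₁₂
  have k₂₁ := key fin₂ a₂₁
  have k₁₃ := key fin₁ a₁₃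
  have k₃₁ := key fin₃ a₃₁
  have k₂₃ := key fin₂ a₂₃
  have k₃₂ := key fin₃ a₃₂
  linarith

theorem latDist_comm {M₁ M₂ : Submodule A V} (h₁ : IsLat K M₁) (h₂ : IsLat K M₂) :
    latDist M₂ M₁ = - latDist M₁ M₂ := by
  have h := latDist_add K h₁ h₂ h₁
  rw [latDist_self] at h
  linarith

/-- The image of a lattice under an automorphism is a lattice. -/
theorem IsLat.map {M : Submodule A V} (h : IsLat K M) (φ : V ≃ₗ[K] V) :
    IsLat K (M.map (φ.restrictScalars A).toLinearMap) := by
  refine ⟨h.1.map _, ?_⟩
  have : ((M.map (φ.restrictScalars A).toLinearMap : Submodule A V) : Set V) =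
      φ.toLinearMap '' (M : Set V) := by
    ext x
    simp
  rw [this, ← Submodule.map_span, h.2, Submodule.map_top, LinearMap.range_eq_top]
  exact φ.surjective

/-- The invariant `e(φ) = d(M, φM)` does not depend on the lattice `M`. -/
theorem latDist_map_eq_of_isLat {M M' : Submodule A V} (h : IsLat K M) (h' : IsLat K M')
    (φ : V ≃ₗ[K] V) :
    latDist M (M.map (φ.restrictScalars A).toLinearMap) =
      latDist M' (M'.map (φ.restrictScalars A).toLinearMap) := by
  have hφM := h.map K φ
  have hφM' := h'.map K φ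
  have e1 := latDist_add K h' h hφM'
  have e2 := latDist_add K h hφM hφM'
  have e3 := latDist_map (φ.restrictScalars A) M M'
  have e4 := latDist_comm K h h'
  linarith

/-- The invariant `e(φ) = d(M, φM)` is additive in `φ`. -/
theorem latDist_map_mul {M : Submodule A V} (h : IsLat K M) (φ ψ : V ≃ₗ[K] V) :
    latDist M (M.map ((φ * ψ).restrictScalars A).toLinearMap) =
      latDist M (M.map (φ.restrictScalars A).toLinearMap) +
        latDist M (M.map (ψ.restrictScalars A).toLinearMap) := by
  have hφM := h.map K φ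
  have hψM := h.map K ψ
  have hφψM := h.map K (φ * ψ)
  have e1 := latDist_add K h hφM hφψM
  have e2 := latDist_map (φ.restrictScalars A) M (M.map (ψ.restrictScalars A).toLinearMap)
  have e3 : (M.map (ψ.restrictScalars A).toLinearMap).map (φ.restrictScalars A).toLinearMap =
      M.map ((φ * ψ).restrictScalars A).toLinearMap := by
    rw [← Submodule.map_comp]
    rfl
  rw [e3] at e2
  linarith

end cocycle

section basis

variable {A : Type u} [CommRing A] [IsDomain A] [IsNoetherianRing A] [Ring.KrullDimLE 1 A]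
  (K : Type u) [Field K] [Algebra A K] [IsFractionRing A K]
  {V : Type v} [AddCommGroup V] [Module K V] [Module A V] [IsScalarTower A K V]
  {ι : Type} [Fintype ι] [DecidableEq ι] (b : Module.Basis ι K V)

/-- The `A`-lattice spanned by the vectors `u i • b i`. -/
def basisLat (u : ι → A) : Submodule A V := Submodule.span A (Set.range fun i => u i • b i)

theorem basisLat_isLat (u : ι → A) (hu : ∀ i, u i ≠ 0) : IsLat K (basisLat K b u) := by
  refine ⟨Submodule.fg_span (Set.finite_range _), ?_⟩
  rw [eq_top_iff, ← b.span_eq, Submodule.span_le]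
  rintro _ ⟨i, rfl⟩
  have hui : algebraMap A K (u i) ≠ 0 := by
    rw [Ne, map_eq_zero_iff _ (IsFractionRing.injective A K)]
    exact hu i
  have : b i = (algebraMap A K (u i))⁻¹ • (u i • b i) := by
    rw [← algebraMap_smul K (u i) (b i), smul_smul, inv_mul_cancel₀ hui, one_smul]
  rw [this]
  exact Submodule.smul_mem _ _ (Submodule.subset_span (Submodule.subset_span ⟨i, rfl⟩))

theorem toLin_transvection_basis (i j : ι) (c : K) (k : ι) :
    Matrix.toLin b b (Matrix.transvection i j c) (b k) =
      b k + (if k = j then c • b i else 0) := by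
  rw [Matrix.toLin_self]
  simp only [Matrix.transvection, Matrix.add_apply, Matrix.one_apply, add_smul,
    Finset.sum_add_distrib, ite_smul, one_smul, zero_smul, Finset.sum_ite_eq', Finset.mem_univ,
    if_true]
  congr 1
  by_cases hk : k = j
  · subst hk
    rw [if_pos rfl, Finset.sum_eq_single i]
    · simp
    · intro l _ hl
      have : Matrix.single i k c l k = 0 :=
        Matrix.single_apply_of_ne i k c l k (fun h => hl h.1.symm)
      simp [this]
    · intro h
      exact absurd (Finset.mem_univ i) h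
  · rw [if_neg hk]
    apply Finset.sum_eq_zero
    intro l _
    have : Matrix.single i j c l k = 0 :=
      Matrix.single_apply_of_ne i j c l k (fun h => hk h.2.symm)
    simp [this]

/-- A transvection with entry `r / s` preserves the lattice spanned by the basis rescaled by `s`
at the index `j`. -/
theorem toLin_transvection_mem_basisLat {i j : ι} (hij : i ≠ j) (r s : A) (hs : s ≠ 0)
    (m : V) (hm : m ∈ basisLat K b (fun k => if k = j then s else 1)) :
    Matrix.toLin b b (Matrix.transvection i j (algebraMap A K r / algebraMap A K s)) m ∈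
      basisLat K b (fun k => if k = j then s else 1) := by
  have hsK : algebraMap A K s ≠ 0 := by
    rw [Ne, map_eq_zero_iff _ (IsFractionRing.injective A K)]
    exact hs
  unfold basisLat at hm ⊢
  induction hm using Submodule.span_induction with
  | mem x hx =>
    obtain ⟨k, rfl⟩ := hx
    dsimp only
    rw [LinearMap.map_smul_of_tower, toLin_transvection_basis, smul_add]
    refine Submodule.add_mem _ (Submodule.subset_span ⟨k, rfl⟩) ?_
    by_cases hk : k = j
    · subst hk
      rw [if_pos rfl, if_pos rfl]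
      have h1 : s • ((algebraMap A K r / algebraMap A K s) • b i) = r • b i := by
        rw [← algebraMap_smul K s, smul_smul, mul_div_cancel₀ _ hsK, algebraMap_smul]
      rw [h1]
      have h2 : b i = (fun l => (if l = k then s else 1) • b l) i := by
        dsimp only
        rw [if_neg hij, one_smul]
      rw [h2]
      exact Submodule.smul_mem _ r (Submodule.subset_span ⟨i, rfl⟩)
    · rw [if_neg hk, if_neg hk, smul_zero]
      exact Submodule.zero_mem _
  | zero => rw [map_zero]; exact Submodule.zero_mem _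
  | add x y _ _ hx hy => rw [map_add]; exact Submodule.add_mem _ hx hy
  | smul a x _ hx => rw [LinearMap.map_smul_of_tower]; exact Submodule.smul_mem _ a hx

/-- Transvections have distance zero. -/
theorem latDist_map_transvection {M : Submodule A V} (hM : IsLat K M)
    (t : Matrix.TransvectionStruct ι K) (h : IsUnit t.toMatrix.det) :
    latDist M (M.map ((Matrix.toLinearEquiv b t.toMatrix h).restrictScalars A).toLinearMap) = 0 := by
  obtain ⟨i, j, hij, c⟩ := t
  obtain ⟨r, s, hs, rfl⟩ := IsFractionRing.div_surjective (A := A) c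
  have hs0 : s ≠ 0 := nonZeroDivisors.ne_zero hs
  set u : ι → A := fun k => if k = j then s else 1 with hu
  have hu0 : ∀ k, u k ≠ 0 := by
    intro k
    simp only [hu]
    split_ifs
    · exact hs0
    · exact one_ne_zero
  have hMu := basisLat_isLat K b u hu0
  rw [latDist_map_eq_of_isLat K hM hMu]
  suffices hsuff : (basisLat K b u).map
      ((Matrix.toLinearEquiv b (Matrix.TransvectionStruct.toMatrix ⟨i, j, hij, _⟩)
        h).restrictScalars A).toLinearMap = basisLat K b u by
    rw [hsuff, latDist_self]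
  apply le_antisymm
  · rintro _ ⟨m, hm, rfl⟩
    exact toLin_transvection_mem_basisLat K b hij r s hs0 m hm
  · intro m hm
    have hm' := toLin_transvection_mem_basisLat K b hij (-r) s hs0 m hm
    refine ⟨_, hm', ?_⟩
    change Matrix.toLin b b (Matrix.transvection i j (algebraMap A K r / algebraMap A K s))
      (Matrix.toLin b b (Matrix.transvection i j (algebraMap A K (-r) / algebraMap A K s)) m) = m
    rw [← LinearMap.comp_apply, ← Matrix.toLin_mul b b b,
      Matrix.transvection_mul_transvection_same i j hij]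
    have : algebraMap A K r / algebraMap A K s + algebraMap A K (-r) / algebraMap A K s = 0 := by
      rw [map_neg, neg_div, add_neg_cancel]
    rw [this, Matrix.transvection_zero, Matrix.toLin_one, LinearMap.id_apply]

/-- Membership in the rescaled basis lattice in terms of coordinates. -/
theorem mem_basisLat_iff (a : ι → A) (m : V) :
    m ∈ basisLat K b a ↔ ∀ i, ∃ d : A, b.repr m i = algebraMap A K (a i * d) := by
  constructor
  · intro hm
    unfold basisLat at hm
    induction hm using Submodule.span_induction with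
    | mem x hx =>
      obtain ⟨k, rfl⟩ := hx
      intro i
      dsimp only
      by_cases hik : i = k
      · subst hik
        refine ⟨1, ?_⟩
        rw [← algebraMap_smul K (a i) (b i), map_smul, b.repr_self, Finsupp.smul_apply,
          Finsupp.single_eq_same, smul_eq_mul, mul_one, mul_one]
      · refine ⟨0, ?_⟩
        rw [← algebraMap_smul K (a k) (b k), map_smul, b.repr_self, Finsupp.smul_apply,
          Finsupp.single_eq_of_ne hik, smul_zero, mul_zero, map_zero]
    | zero => intro i; exact ⟨0, by simp⟩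
    | add x y _ _ hx hy =>
      intro i
      obtain ⟨d, hd⟩ := hx i
      obtain ⟨d', hd'⟩ := hy i
      refine ⟨d + d', ?_⟩
      rw [map_add, Finsupp.add_apply, hd, hd', mul_add, map_add]
    | smul r x _ hx =>
      intro i
      obtain ⟨d, hd⟩ := hx i
      refine ⟨r * d, ?_⟩
      rw [← algebraMap_smul K r x, map_smul, Finsupp.smul_apply, hd, smul_eq_mul, ← map_mul]
      congr 1
      ring
  · intro h
    choose d hd using h
    have hm : m = ∑ i, d i • (a i • b i) := by
      conv_lhs => rw [← b.sum_repr m]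
      refine Finset.sum_congr rfl fun i _ => ?_
      rw [hd i, algebraMap_smul, mul_comm, mul_smul]
    rw [hm]
    exact Submodule.sum_mem _ fun i _ =>
      Submodule.smul_mem _ _ (Submodule.subset_span ⟨i, rfl⟩)

theorem basisLat_one : basisLat K b (1 : ι → A) = Submodule.span A (Set.range b) := by
  unfold basisLat
  congr 1
  ext x
  simp

/-- The colength of the rescaled basis lattice in the standard basis lattice. -/
theorem length_basisLat_quotient (a : ι → A) :
    Module.length A (↥(basisLat K b (1 : ι → A)) ⧸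
        (basisLat K b a).submoduleOf (basisLat K b (1 : ι → A))) =
      ∑ i, Module.length A (A ⧸ Ideal.span {a i}) := by
  rw [basisLat_one]
  set M₁ : Submodule A V := Submodule.span A (Set.range b) with hM₁
  let b' : Module.Basis ι A M₁ := b.restrictScalars A
  let F : M₁ →ₗ[A] (∀ i, A ⧸ Ideal.span {a i}) :=
    (LinearMap.pi fun i => (Ideal.span {a i}).mkQ ∘ₗ LinearMap.proj i) ∘ₗ
      b'.equivFun.toLinearMap
  have hF : Function.Surjective F := by
    intro t
    choose c hc using fun i => Submodule.mkQ_surjective (Ideal.span {a i}) (t i)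
    refine ⟨b'.equivFun.symm c, ?_⟩
    ext i
    simp only [F, LinearMap.comp_apply, LinearEquiv.coe_coe, LinearEquiv.apply_symm_apply,
      LinearMap.pi_apply, LinearMap.proj_apply]
    exact hc i
  have hker : LinearMap.ker F = (basisLat K b a).submoduleOf M₁ := by
    ext ⟨m, hm⟩
    rw [LinearMap.mem_ker, Submodule.submoduleOf, Submodule.mem_comap, Submodule.subtype_apply,
      mem_basisLat_iff]
    constructor
    · intro h0 i
      have h1 : (Ideal.span {a i}).mkQ (b'.equivFun ⟨m, hm⟩ i) = 0 := congrFun h0 i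
      rw [Submodule.mkQ_apply, Submodule.Quotient.mk_eq_zero, Ideal.mem_span_singleton'] at h1
      obtain ⟨d, hd⟩ := h1
      refine ⟨d, ?_⟩
      have h2 := Module.Basis.restrictScalars_repr_apply A b ⟨m, hm⟩ i
      rw [← h2]
      congr 1
      rw [mul_comm, hd]
      rfl
    · intro h
      ext i
      obtain ⟨d, hd⟩ := h i
      change (Ideal.span {a i}).mkQ (b'.equivFun ⟨m, hm⟩ i) = 0
      rw [Submodule.mkQ_apply, Submodule.Quotient.mk_eq_zero, Ideal.mem_span_singleton']
      refine ⟨d, ?_⟩
      have h2 := Module.Basis.restrictScalars_repr_apply A b ⟨m, hm⟩ i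
      have h3 : algebraMap A K (b'.equivFun ⟨m, hm⟩ i) = algebraMap A K (a i * d) := by
        rw [← hd]
        exact h2
      rw [mul_comm]
      exact (IsFractionRing.injective A K h3).symm
  have e1 : (↥M₁ ⧸ (basisLat K b a).submoduleOf M₁) ≃ₗ[A] (∀ i, A ⧸ Ideal.span {a i}) :=
    (Submodule.quotEquivOfEq _ _ hker.symm).trans (F.quotKerEquivOfSurjective hF)
  rw [e1.length_eq, Module.length_pi_of_fintype]

theorem toLin_diagonal_basis (D : ι → K) (k : ι) :
    Matrix.toLin b b (Matrix.diagonal D) (b k) = D k • b k := by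
  rw [Matrix.toLin_self]
  simp [Matrix.diagonal_apply, ite_smul]

/-- Integral diagonal matrices. -/
theorem latDist_map_diagonal_integral {M : Submodule A V} (hM : IsLat K M) (a : ι → A)
    (ha : ∀ i, a i ≠ 0)
    (h : IsUnit (Matrix.diagonal (fun i => algebraMap A K (a i))).det) :
    latDist M (M.map ((Matrix.toLinearEquiv b
      (Matrix.diagonal fun i => algebraMap A K (a i)) h).restrictScalars A).toLinearMap) =
      ∑ i, CycAlg.ordFrac A K (algebraMap A K (a i)) := by
  have hM₁ := basisLat_isLat K b (1 : ι → A) (fun _ => one_ne_zero)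
  rw [latDist_map_eq_of_isLat K hM hM₁]
  have himg : (basisLat K b (1 : ι → A)).map ((Matrix.toLinearEquiv b
      (Matrix.diagonal fun i => algebraMap A K (a i)) h).restrictScalars A).toLinearMap =
      basisLat K b a := by
    unfold basisLat
    rw [Submodule.map_span, ← Set.range_comp]
    congr 2
    ext i
    simp only [Function.comp_apply, Pi.one_apply, one_smul]
    change Matrix.toLin b b (Matrix.diagonal fun i => algebraMap A K (a i)) (b i) = a i • b i
    rw [toLin_diagonal_basis, algebraMap_smul]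
  rw [himg]
  have hle : basisLat K b a ≤ basisLat K b (1 : ι → A) := by
    unfold basisLat
    rw [Submodule.span_le]
    rintro _ ⟨i, rfl⟩
    exact Submodule.smul_mem _ _ (Submodule.subset_span ⟨i, by simp⟩)
  rw [latDist_of_le hle, length_basisLat_quotient]
  have hfin : ∀ i ∈ (Finset.univ : Finset ι), Module.length A (A ⧸ Ideal.span {a i}) ≠ ⊤ :=
    fun i _ => Ring.ord_ne_top (mem_nonZeroDivisors_of_ne_zero (ha i))
  rw [ENat.toNat_sum hfin]
  push_cast
  exact Finset.sum_congr rfl fun i _ => (ordFracInt_algebraMap A K (ha i)).symm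

theorem toLinearEquiv_mul (N₁ N₂ : Matrix ι ι K) (h₁ : IsUnit N₁.det) (h₂ : IsUnit N₂.det)
    (h : IsUnit (N₁ * N₂).det) :
    Matrix.toLinearEquiv b (N₁ * N₂) h =
      Matrix.toLinearEquiv b N₁ h₁ * Matrix.toLinearEquiv b N₂ h₂ := by
  ext x
  change Matrix.toLin b b (N₁ * N₂) x = Matrix.toLin b b N₁ (Matrix.toLin b b N₂ x)
  rw [Matrix.toLin_mul b b b]
  rfl

/-- General invertible diagonal matrices. -/
theorem latDist_map_diagonal {M : Submodule A V} (hM : IsLat K M) (D : ι → K)
    (h : IsUnit (Matrix.diagonal D).det) :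
    latDist M (M.map ((Matrix.toLinearEquiv b (Matrix.diagonal D) h).restrictScalars A).toLinearMap) =
      ∑ i, CycAlg.ordFrac A K (D i) := by
  have hD : ∀ i, D i ≠ 0 := by
    rw [Matrix.det_diagonal, isUnit_iff_ne_zero, Finset.prod_ne_zero_iff] at h
    exact fun i => h i (Finset.mem_univ i)
  choose a s hs hDas using fun i => IsFractionRing.div_surjective (A := A) (D i)
  have hs0 : ∀ i, s i ≠ 0 := fun i => nonZeroDivisors.ne_zero (hs i)
  have hsK : ∀ i, algebraMap A K (s i) ≠ 0 := fun i => by
    rw [Ne, map_eq_zero_iff _ (IsFractionRing.injective A K)]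
    exact hs0 i
  have ha0 : ∀ i, a i ≠ 0 := by
    intro i hai
    apply hD i
    rw [← hDas i, hai, map_zero, zero_div]
  have haK : ∀ i, algebraMap A K (a i) ≠ 0 := fun i => by
    rw [Ne, map_eq_zero_iff _ (IsFractionRing.injective A K)]
    exact ha0 i
  have hdetS : IsUnit (Matrix.diagonal fun i => algebraMap A K (s i)).det := by
    rw [Matrix.det_diagonal, isUnit_iff_ne_zero, Finset.prod_ne_zero_iff]
    exact fun i _ => hsK i
  have hdetA : IsUnit (Matrix.diagonal fun i => algebraMap A K (a i)).det := by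
    rw [Matrix.det_diagonal, isUnit_iff_ne_zero, Finset.prod_ne_zero_iff]
    exact fun i _ => haK i
  have hmat : Matrix.diagonal D * Matrix.diagonal (fun i => algebraMap A K (s i)) =
      Matrix.diagonal fun i => algebraMap A K (a i) := by
    rw [Matrix.diagonal_mul_diagonal]
    congr 1
    ext i
    rw [← hDas i, div_mul_cancel₀ _ (hsK i)]
  have hdetP : IsUnit (Matrix.diagonal D * Matrix.diagonal (fun i => algebraMap A K (s i))).det := by
    rw [hmat]; exact hdetA
  have hmul := toLinearEquiv_mul K b _ _ h hdetS hdetP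
  have e1 := latDist_map_mul K hM (Matrix.toLinearEquiv b (Matrix.diagonal D) h)
    (Matrix.toLinearEquiv b (Matrix.diagonal fun i => algebraMap A K (s i)) hdetS)
  rw [← hmul] at e1
  have e2 := latDist_map_diagonal_integral K b hM a ha0 hdetA
  have e3 := latDist_map_diagonal_integral K b hM s hs0 hdetS
  have e4 : Matrix.toLinearEquiv b
      (Matrix.diagonal D * Matrix.diagonal (fun i => algebraMap A K (s i))) hdetP =
      Matrix.toLinearEquiv b (Matrix.diagonal fun i => algebraMap A K (a i)) hdetA := by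
    ext x
    change Matrix.toLin b b _ x = Matrix.toLin b b _ x
    rw [hmat]
  rw [e4, e2, e3] at e1
  have e5 : ∀ i, CycAlg.ordFrac A K (D i) =
      CycAlg.ordFrac A K (algebraMap A K (a i)) - CycAlg.ordFrac A K (algebraMap A K (s i)) := by
    intro i
    rw [← hDas i, div_eq_mul_inv, ordFracInt_mul A K (haK i) (inv_ne_zero (hsK i)),
      ordFracInt_inv A K (hsK i)]
    ring
  simp_rw [e5]
  rw [Finset.sum_sub_distrib]
  linarith

/-- The distance `d(M, N·M)` is the order of the determinant, for invertible matrices `N`. -/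
theorem latDist_map_toLinearEquiv {M : Submodule A V} (hM : IsLat K M) (N : Matrix ι ι K)
    (h : IsUnit N.det) :
    latDist M (M.map ((Matrix.toLinearEquiv b N h).restrictScalars A).toLinearMap) =
      CycAlg.ordFrac A K N.det := by
  have hdet : N.det ≠ 0 := h.ne_zero
  revert h
  refine Matrix.diagonal_transvection_induction_of_det_ne_zero
    (fun N => ∀ h : IsUnit N.det,
      latDist M (M.map ((Matrix.toLinearEquiv b N h).restrictScalars A).toLinearMap) =
        CycAlg.ordFrac A K N.det) N hdet ?_ ?_ ?_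
  · intro D hD h
    rw [latDist_map_diagonal K b hM D h, Matrix.det_diagonal, ordFracInt_prod]
    intro i _
    rw [Matrix.det_diagonal, Finset.prod_ne_zero_iff] at hD
    exact hD i (Finset.mem_univ i)
  · intro t h
    rw [latDist_map_transvection K b hM t h, Matrix.TransvectionStruct.det, ordFracInt_one]
  · intro N₁ N₂ h₁ h₂ ih₁ ih₂ h
    have hu₁ : IsUnit N₁.det := isUnit_iff_ne_zero.mpr h₁
    have hu₂ : IsUnit N₂.det := isUnit_iff_ne_zero.mpr h₂
    rw [toLinearEquiv_mul K b N₁ N₂ hu₁ hu₂ h, latDist_map_mul K hM, ih₁ hu₁, ih₂ hu₂,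
      Matrix.det_mul, ordFracInt_mul A K h₁ h₂]

end basis

section main

variable {A : Type u} [CommRing A] [IsDomain A] [IsNoetherianRing A] [Ring.KrullDimLE 1 A]
  (K : Type u) [Field K] [Algebra A K] [IsFractionRing A K]
  {V : Type v} [AddCommGroup V] [Module K V] [Module A V] [IsScalarTower A K V]
  [FiniteDimensional K V]

/-- **Distance of `M` and `φ M` is the order of `det φ`.** -/
theorem latDist_map_eq_ordFrac_det {M : Submodule A V} (hM : IsLat K M) (φ : V ≃ₗ[K] V) :
    latDist M (M.map (φ.restrictScalars A).toLinearMap) =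
      CycAlg.ordFrac A K (LinearMap.det φ.toLinearMap) := by
  classical
  let b := Module.finBasis K V
  set N := LinearMap.toMatrix b b φ.toLinearMap with hN
  have hdetN : N.det = LinearMap.det φ.toLinearMap := LinearMap.det_toMatrix b φ.toLinearMap
  have hunit : IsUnit N.det := by
    rw [hdetN]
    exact φ.isUnit_det'
  have hφ : φ = Matrix.toLinearEquiv b N hunit := by
    ext x
    change φ x = Matrix.toLin b b N x
    rw [hN, Matrix.toLin_toMatrix]
    rfl
  rw [← hdetN]
  conv_lhs => rw [hφ]
  exact latDist_map_toLinearEquiv K b hM N hunit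

end main

end Groth.Agent.Lib.Helper74
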