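import Mathlib.RingTheory.AdicCompletion.Exactness
import Mathlib.RingTheory.AdicCompletion.AsTensorProduct
import Mathlib.RingTheory.Finiteness.Nakayama

/-!
A finitely generated module all of whose `m`-adic completions (`m` maximal) vanish is zero.
-/

set_option autoImplicit false
universe u

namespace Groth.Agent.Lib.Helper74

open AdicCompletion

/-- A nonzero finitely generated module `N` has a maximal ideal `m` with `m N ≠ N`. -/
theorem exists_maximal_smul_top_ne_top (A : Type u) [CommRing A] (N : Type u) [AddCommGroup N]
    [Module A N] [Module.Finite A N] [Nontrivial N] :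
    ∃ m : Ideal A, m.IsMaximal ∧ (m • (⊤ : Submodule A N)) ≠ ⊤ := by
  have hann : Module.annihilator A N ≠ ⊤ := by
    intro h
    have h1 : (1 : A) ∈ Module.annihilator A N := by rw [h]; trivial
    rw [Module.mem_annihilator] at h1
    obtain ⟨x, hx⟩ := exists_ne (0 : N)
    exact hx (by simpa using h1 x)
  obtain ⟨m, hm, hle⟩ := Ideal.exists_le_maximal _ hann
  refine ⟨m, hm, fun htop => ?_⟩
  obtain ⟨r, hr, hr'⟩ := Submodule.exists_sub_one_mem_and_smul_eq_zero_of_fg_of_le_smul m
    (⊤ : Submodule A N) Module.Finite.fg_top (by rw [htop])
  have hrann : r ∈ Module.annihilator A N := by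
    rw [Module.mem_annihilator]
    intro n
    exact hr' n trivial
  have hrm : r ∈ m := hle hrann
  have : (1 : A) ∈ m := by
    have := m.sub_mem hrm hr
    simpa using this
  exact hm.ne_top ((Ideal.eq_top_iff_one m).2 this)

/-- Key lemma: a finitely generated module whose `m`-adic completion vanishes for every maximal
ideal `m` is trivial. -/
theorem subsingleton_of_forall_adicCompletion (A : Type u) [CommRing A] (N : Type u)
    [AddCommGroup N] [Module A N] [Module.Finite A N]
    (h : ∀ (m : Ideal A) [m.IsMaximal], Subsingleton (AdicCompletion m N)) : Subsingleton N := by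
  by_contra hN
  rw [not_subsingleton_iff_nontrivial] at hN
  obtain ⟨m, hm, hne⟩ := exists_maximal_smul_top_ne_top A N
  have := h m
  have hsurj := AdicCompletion.eval_surjective m N 1
  have hsub : Subsingleton (N ⧸ (m ^ 1 • ⊤ : Submodule A N)) := hsurj.subsingleton
  rw [pow_one, Submodule.Quotient.subsingleton_iff] at hsub
  exact hne hsub

end Groth.Agent.Lib.Helper74
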