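import Mathlib
import Groth.Agent.Lib.Helper28.ShVanKampen

/-!
# The canonical topology of a topos of sheaves of sets (helper74)

For a small site `(C, J)` and `E = Sheaf J (Type u)`:

* `gen J : C ⥤ E`, the sheafified representables, and `secEquiv J Z T : (gen T ⟶ Z) ≃ Z(T)`;
* `epi_pullback_snd`, `effectiveEpi_pullback_snd`: epimorphisms of `E` are universally effective;
* `mem_canonical_of_jointly_epi` (COV): a sieve of `E` containing a small jointly epimorphic
  family is covering for the canonical topology of `E`;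
* `isColimitGenCocone` (DENS): an object is the colimit of the generators mapping to it through
  a sieve for which all representables are sheaves;
* `colim_local`: sections of a colimit of sheaves which agree are locally connected by zigzags;
* `isSheaf_of_cont`, `cont_of_isSheaf`, `isSheaf_canonical_iff`: sheaves for the canonical topology
  of `E` are exactly the functors `Eᵒᵖ ⥤ E'` turning small colimits into limits.
-/

set_option autoImplicit false
set_option linter.unusedSectionVars false
universe w v u
open CategoryTheory CategoryTheory.Limits Opposite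

namespace Groth.Agent.Lib.Helper74.CanonicalTopos


section generic

variable {𝒞 : Type v} [Category.{w} 𝒞]

/-- a universally effective epimorphism generates a covering sieve of the canonical topology -/
lemma generate_singleton_mem [HasPullbacks 𝒞] {U P : 𝒞} (e : P ⟶ U)
    (he : ∀ (V : 𝒞) (g : V ⟶ U), EffectiveEpi (pullback.snd e g)) :
    Sieve.generate (Presieve.singleton e) ∈ Sheaf.canonicalTopology 𝒞 U := by
  apply Sheaf.mem_finestTopology_of_forall_isSheafFor
  rintro _ ⟨W, rfl⟩ V g
  rw [← Sieve.pullbackArrows_comm, Presieve.pullback_singleton, ← Presieve.isSheafFor_iff_generate]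
  have := he V g
  exact Presieve.IsSheafFor.singleton_of_isRepresentable_of_effectiveEpi _ _

/-- base change of a universal coproduct along `g` -/
noncomputable def isColimit_pullback_cofan [HasPullbacks 𝒞] {ι : Type*} {Y : ι → 𝒞} (c : Cofan Y)
    (hu : IsUniversalColimit c) {Z : 𝒞} (g : Z ⟶ c.pt) :
    IsColimit (Cofan.mk Z (fun i => pullback.snd (c.inj i) g)) := by
  refine (hu (Cofan.mk Z (fun i => pullback.snd (c.inj i) g))
    (Discrete.natTrans (fun i => pullback.fst (c.inj i.as) g)) g ?_
    (NatTrans.Equifibered.of_discrete _) ?_).some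
  · ext ⟨i⟩
    exact pullback.condition
  · rintro ⟨i⟩
    exact (IsPullback.of_hasPullback (c.inj i) g).flip

/-- the injections of a universal coproduct form a covering family of the canonical topology -/
lemma ofArrows_inj_mem [HasPullbacks 𝒞] {ι : Type*} {Y : ι → 𝒞} (c : Cofan Y)
    (hu : IsUniversalColimit c) :
    Sieve.ofArrows Y c.inj ∈ Sheaf.canonicalTopology 𝒞 c.pt := by
  apply Sheaf.mem_finestTopology_of_forall_isSheafFor
  rintro _ ⟨W, rfl⟩ Z g
  rw [Sieve.ofArrows, ← Sieve.pullbackArrows_comm, ← Presieve.ofArrows_pullback,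
    ← Presieve.isSheafFor_iff_generate, Presieve.isSheafFor_arrows_iff]
  intro x _
  have hc := isColimit_pullback_cofan c hu g
  refine ⟨Cofan.IsColimit.desc hc x, fun i => Cofan.IsColimit.fac hc x i, fun t ht => ?_⟩
  apply Cofan.IsColimit.hom_ext hc
  intro i
  rw [Cofan.IsColimit.fac hc x i]
  exact ht i

end generic



section sheaf

variable {C : Type u} [SmallCategory C] (J : GrothendieckTopology C)

/-- the generators of the topos of sheaves: sheafified representables -/
noncomputable abbrev gen : C ⥤ Sheaf J (Type u) := yoneda ⋙ presheafToSheaf J (Type u)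

/-- sections of a sheaf as morphisms from the sheafified representable. -/
noncomputable def secEquiv (Z : Sheaf J (Type u)) (T : C) :
    ((gen J).obj T ⟶ Z) ≃ Z.obj.obj (op T) :=
  ((sheafificationAdjunction J (Type u)).homEquiv (yoneda.obj T) Z).trans yonedaEquiv

lemma secEquiv_comp {Z Z' : Sheaf J (Type u)} (T : C) (f : (gen J).obj T ⟶ Z) (p : Z ⟶ Z') :
    secEquiv J Z' T (f ≫ p) = p.hom.app (op T) (secEquiv J Z T f) := by
  unfold secEquiv
  simp only [Equiv.trans_apply]
  rw [Adjunction.homEquiv_naturality_right]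
  exact yonedaEquiv_comp _ _

lemma secEquiv_map {Z : Sheaf J (Type u)} {T T' : C} (h : T' ⟶ T) (f : (gen J).obj T ⟶ Z) :
    secEquiv J Z T' ((gen J).map h ≫ f) = Z.obj.map h.op (secEquiv J Z T f) := by
  unfold secEquiv
  simp only [Equiv.trans_apply]
  change yonedaEquiv (((sheafificationAdjunction J (Type u)).homEquiv (yoneda.obj T') Z)
    ((presheafToSheaf J (Type u)).map (yoneda.map h) ≫ f)) = _
  rw [Adjunction.homEquiv_naturality_left]
  exact (yonedaEquiv_naturality _ _).symm

lemma secEquiv_symm_comp {Z Z' : Sheaf J (Type u)} (T : C) (z : Z.obj.obj (op T)) (p : Z ⟶ Z') :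
    (secEquiv J Z T).symm z ≫ p = (secEquiv J Z' T).symm (p.hom.app (op T) z) := by
  apply (secEquiv J Z' T).injective
  rw [secEquiv_comp, Equiv.apply_symm_apply, Equiv.apply_symm_apply]

lemma secEquiv_symm_map {Z : Sheaf J (Type u)} {T T' : C} (h : T' ⟶ T) (z : Z.obj.obj (op T)) :
    (gen J).map h ≫ (secEquiv J Z T).symm z = (secEquiv J Z T').symm (Z.obj.map h.op z) := by
  apply (secEquiv J Z T').injective
  rw [secEquiv_map, Equiv.apply_symm_apply, Equiv.apply_symm_apply]

/-- morphisms of sheaves are determined by their effect on generator maps -/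
lemma hom_ext_gen {Z Z' : Sheaf J (Type u)} (a b : Z ⟶ Z')
    (h : ∀ (T : C) (σ : (gen J).obj T ⟶ Z), σ ≫ a = σ ≫ b) : a = b := by
  apply Sheaf.hom_ext
  ext ⟨T⟩ z
  have := h T ((secEquiv J Z T).symm z)
  rw [secEquiv_symm_comp, secEquiv_symm_comp] at this
  exact (secEquiv J Z' T).symm.injective this

/-- epimorphisms of sheaves of sets are stable under base change -/
lemma epi_pullback_snd {A B B' : Sheaf J (Type u)} (p : A ⟶ B) [Epi p] (g : B' ⟶ B) :
    Epi (pullback.snd p g) := by
  have hp : Sheaf.IsLocallySurjective p := (Sheaf.isLocallySurjective_iff_epi p).mpr inferInstance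
  have hpb := ((IsPullback.of_hasPullback p g).map (sheafToPresheaf J (Type u)))
  have hls : Sheaf.IsLocallySurjective (pullback.snd p g) := by
    constructor
    intro U b'
    refine J.superset_covering ?_ (Presheaf.imageSieve_mem J p.hom (g.hom.app (op U) b'))
    rintro V k ⟨a, ha⟩
    have hpbV := hpb.app (op V)
    obtain ⟨x, -, hx⟩ := Types.exists_of_isPullback hpbV a (B'.obj.map k.op b')
      (ha.trans (NatTrans.naturality_apply g.hom k.op b').symm)
    exact ⟨x, hx⟩
  infer_instance

/-- epimorphisms of sheaves of sets are universally effective -/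
lemma effectiveEpi_pullback_snd {A B B' : Sheaf J (Type u)} (p : A ⟶ B) [Epi p] (g : B' ⟶ B) :
    EffectiveEpi (pullback.snd p g) := by
  have := epi_pullback_snd J p g
  have := IsRegularEpiCategory.regularEpiOfEpi (pullback.snd p g)
  exact (isRegularEpi_iff_effectiveEpi _).mp this

/-- (COV) a sieve containing a small jointly epimorphic family is covering for the
canonical topology of the topos -/
lemma mem_canonical_of_jointly_epi {Z : Sheaf J (Type u)} (T : Sieve Z) {ι : Type u}
    (Y : ι → Sheaf J (Type u)) (f : ∀ i, Y i ⟶ Z) (hfT : ∀ i, T (f i))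
    (hepi : ∀ (W : Sheaf J (Type u)) (a b : Z ⟶ W), (∀ i, f i ≫ a = f i ≫ b) → a = b) :
    T ∈ Sheaf.canonicalTopology (Sheaf J (Type u)) Z := by
  have h2 : HasColimitsOfShape (Discrete ι) (Sheaf J (Type u)) :=
    CategoryTheory.Sheaf.instHasColimitsOfShape
  have h3 : HasCoproduct Y := inferInstance
  let c : Cofan Y := Cofan.mk (∐ Y) (Sigma.ι Y)
  have hc : IsColimit c := coproductIsCoproduct Y
  have hu : IsUniversalColimit c :=
    (Groth.Agent.Lib.Helper28.isVanKampenColimit_discrete_sheaf J c hc).isUniversal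
  let p : ∐ Y ⟶ Z := Sigma.desc f
  have hp : Epi p := ⟨fun a b hab => hepi _ a b (fun i => by
    have := congr_arg (fun m => Sigma.ι Y i ≫ m) hab
    simpa [p] using this)⟩
  have hR : Sieve.generate (Presieve.singleton p) ∈
      Sheaf.canonicalTopology (Sheaf J (Type u)) Z :=
    generate_singleton_mem p (fun V g => effectiveEpi_pullback_snd J p g)
  have hT : T.pullback p ∈ Sheaf.canonicalTopology (Sheaf J (Type u)) (∐ Y) := by
    refine GrothendieckTopology.superset_covering _ ?_ (ofArrows_inj_mem c hu)
    intro V k hk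
    rw [Sieve.mem_ofArrows_iff] at hk
    obtain ⟨i, a, rfl⟩ := hk
    change T ((a ≫ Sigma.ι Y i) ≫ p)
    rw [Category.assoc]
    apply T.downward_closed
    simpa [p] using hfT i
  refine GrothendieckTopology.transitive _ hR T ?_
  rintro V k ⟨W, h, _, ⟨⟩, rfl⟩
  rw [Sieve.pullback_comp]
  exact GrothendieckTopology.pullback_stable _ h hT

end sheaf



section dense

variable {C : Type u} [SmallCategory C] (J : GrothendieckTopology C)
variable {X : Sheaf J (Type u)} (S : Sieve X)

/-- the small category of generator maps into `X` which belong to the sieve `S` -/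
abbrev GenCat : Type u :=
  ObjectProperty.FullSubcategory (fun d : CostructuredArrow (gen J) X => S.arrows d.hom)

/-- the diagram of generators indexed by `GenCat` -/
noncomputable abbrev genDiag : GenCat J S ⥤ Sheaf J (Type u) :=
  ObjectProperty.ι _ ⋙ CostructuredArrow.proj (gen J) X ⋙ gen J

/-- the tautological cocone -/
noncomputable def genCocone : Cocone (genDiag J S) where
  pt := X
  ι :=
    { app := fun d => d.obj.hom
      naturality := fun d d' φ => by
        have := CostructuredArrow.w φ.hom
        dsimp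
        rw [Category.comp_id]
        exact this }

/-- object of `GenCat` attached to a generator map in `S` -/
noncomputable abbrev GenCat.mk' {T : C} (σ : (gen J).obj T ⟶ X) (hσ : S.arrows σ) : GenCat J S :=
  ⟨CostructuredArrow.mk σ, hσ⟩

variable {J S}

/-- sections attached to a cocone -/
noncomputable def zval (s : Cocone (genDiag J S)) {T : C} (σ : (gen J).obj T ⟶ X)
    (hσ : S.arrows σ) : s.pt.obj.obj (op T) :=
  secEquiv J s.pt T (s.ι.app (GenCat.mk' J S σ hσ))

lemma zval_congr (s : Cocone (genDiag J S)) {T : C} {σ σ' : (gen J).obj T ⟶ X}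
    (hσ : S.arrows σ) (h : σ = σ') : zval s σ hσ = zval s σ' (h ▸ hσ) := by
  subst h
  rfl

lemma zval_map (s : Cocone (genDiag J S)) {T T' : C} (h : T' ⟶ T) (σ : (gen J).obj T ⟶ X)
    (hσ : S.arrows σ) :
    zval s ((gen J).map h ≫ σ) (S.downward_closed hσ _) = s.pt.obj.map h.op (zval s σ hσ) := by
  unfold zval
  rw [← secEquiv_map]
  congr 1
  let φ : GenCat.mk' J S ((gen J).map h ≫ σ) (S.downward_closed hσ _) ⟶ GenCat.mk' J S σ hσ :=
    ObjectProperty.homMk (CostructuredArrow.homMk h (by simp))
  exact (s.w φ).symm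


/-- the map `Y ⟶ s.pt` attached to `f : Y ⟶ X` in `S` -/
noncomputable def zmap (s : Cocone (genDiag J S)) {Y : Sheaf J (Type u)} (f : Y ⟶ X)
    (hf : S.arrows f) : Y ⟶ s.pt :=
  ObjectProperty.homMk
    { app := fun T => ↾(fun y => zval s ((secEquiv J Y T.unop).symm y ≫ f)
        (S.downward_closed hf _))
      naturality := fun T T' k => by
        apply ConcreteCategory.hom_ext
        intro y
        change zval s ((secEquiv J Y T'.unop).symm (Y.obj.map k y) ≫ f) _ =
          s.pt.obj.map k (zval s ((secEquiv J Y T.unop).symm y ≫ f) _)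
        have h1 : (secEquiv J Y T'.unop).symm (Y.obj.map k y) ≫ f =
            (gen J).map k.unop ≫ ((secEquiv J Y T.unop).symm y ≫ f) := by
          rw [← Category.assoc, secEquiv_symm_map]
          rfl
        rw [zval_congr s _ h1]
        exact zval_map s k.unop _ _ }

lemma comp_zmap (s : Cocone (genDiag J S)) {Y : Sheaf J (Type u)} (f : Y ⟶ X)
    (hf : S.arrows f) {T : C} (σ : (gen J).obj T ⟶ Y) :
    σ ≫ zmap s f hf = (secEquiv J s.pt T).symm (zval s (σ ≫ f) (S.downward_closed hf _)) := by
  apply (secEquiv J s.pt T).injective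
  rw [secEquiv_comp, Equiv.apply_symm_apply]
  change zval s ((secEquiv J Y T).symm (secEquiv J Y T σ) ≫ f) _ = _
  exact zval_congr s _ (by rw [Equiv.symm_apply_apply])

lemma zmap_comp (s : Cocone (genDiag J S)) {Y Y' : Sheaf J (Type u)} (f : Y ⟶ X)
    (hf : S.arrows f) (g : Y' ⟶ Y) :
    g ≫ zmap s f hf = zmap s (g ≫ f) (S.downward_closed hf g) := by
  apply hom_ext_gen
  intro T σ
  rw [← Category.assoc, comp_zmap, comp_zmap]
  congr 1

lemma zmap_gen (s : Cocone (genDiag J S)) (d : GenCat J S) :
    zmap s d.obj.hom d.property = s.ι.app d := by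
  have h1 := comp_zmap s d.obj.hom d.property (𝟙 _)
  rw [Category.id_comp] at h1
  rw [h1]
  apply (secEquiv J s.pt _).injective
  rw [Equiv.apply_symm_apply]
  rw [zval_congr s _ (Category.id_comp _)]
  rfl

/-- (DENS) if all representables are sheaves for `S`, then `X` is the colimit of the generators
mapping to `X` through `S` -/
noncomputable def isColimitGenCocone
    (hS : ∀ W : Sheaf J (Type u), Presieve.IsSheafFor (yoneda.obj W) S.arrows) :
    IsColimit (genCocone J S) where
  desc s := (hS s.pt).amalgamate (fun Y f hf => zmap s f hf) (by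
    rw [Presieve.compatible_iff_sieveCompatible]
    intro Y Y' f g hf
    exact (zmap_comp s f hf g).symm)
  fac s d := by
    have := (hS s.pt).valid_glue (x := fun Y f hf => zmap s f hf) (by
      rw [Presieve.compatible_iff_sieveCompatible]
      intro Y Y' f g hf
      exact (zmap_comp s f hf g).symm) d.obj.hom d.property
    exact this.trans (zmap_gen s d)
  uniq s m hm := by
    apply (hS s.pt).isSeparatedFor.ext
    intro Y f hf
    have h2 := (hS s.pt).valid_glue (x := fun Y f hf => zmap s f hf) (by
      rw [Presieve.compatible_iff_sieveCompatible]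
      intro Y Y' f g hf
      exact (zmap_comp s f hf g).symm) f hf
    refine Eq.trans ?_ h2.symm
    change f ≫ m = zmap s f hf
    apply hom_ext_gen
    intro T σ
    rw [comp_zmap, ← Category.assoc]
    have := hm (GenCat.mk' J S (σ ≫ f) (S.downward_closed hf _))
    change (σ ≫ f) ≫ m = _ at this
    rw [this]
    apply (secEquiv J s.pt T).injective
    rw [Equiv.apply_symm_apply]
    rfl

end dense



section partA

variable {C : Type u} [SmallCategory C] (J : GrothendieckTopology C)

/-- elementwise form of "`G` turns small colimits of sheaves into limits" -/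
def Cont (G : (Sheaf J (Type u))ᵒᵖ ⥤ Type w) : Prop :=
  ∀ (K : Type u) [SmallCategory K] (D : K ⥤ Sheaf J (Type u)) (c : Cocone D) (_ : IsColimit c)
    (s : ∀ k, G.obj (op (D.obj k))) (_ : ∀ k l (φ : k ⟶ l), G.map (D.map φ).op (s l) = s k),
    ∃! t : G.obj (op c.pt), ∀ k, G.map (c.ι.app k).op t = s k

variable {J}
variable {G : (Sheaf J (Type u))ᵒᵖ ⥤ Type w}

lemma Cont.ext (hG : Cont J G) {Y : Sheaf J (Type u)} (a b : G.obj (op Y))
    (h : ∀ (T : C) (σ : (gen J).obj T ⟶ Y), G.map σ.op a = G.map σ.op b) : a = b := by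
  have hrep : ∀ W : Sheaf J (Type u), Presieve.IsSheafFor (yoneda.obj W) (⊤ : Sieve Y).arrows :=
    fun W => Presieve.isSheafFor_top _
  obtain ⟨t, _, htu⟩ := hG (GenCat J (⊤ : Sieve Y)) (genDiag J ⊤) (genCocone J ⊤)
    (isColimitGenCocone hrep) (fun d => G.map d.obj.hom.op a) (by
      intro k l φ
      change G.map ((gen J).map φ.hom.left).op (G.map l.obj.hom.op a) = G.map k.obj.hom.op a
      rw [← Functor.map_comp_apply, ← op_comp, CostructuredArrow.w φ.hom])
  rw [htu a (fun d => rfl), htu b (fun d => (h _ d.obj.hom).symm)]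

lemma familyOfElements_congr {X : Sheaf J (Type u)} {S : Sieve X}
    (x : Presieve.FamilyOfElements G S.arrows) {Y : Sheaf J (Type u)} {f f' : Y ⟶ X}
    (h : f = f') (hf : S.arrows f) : x f hf = x f' (h ▸ hf) := by
  subst h
  rfl

/-- (Part A) functors turning small colimits into limits are sheaves for the canonical topology -/
theorem isSheaf_of_cont (hG : Cont J G) :
    Presieve.IsSheaf (Sheaf.canonicalTopology (Sheaf J (Type u))) G := by
  intro X S hS x hx
  have hrep : ∀ W : Sheaf J (Type u), Presieve.IsSheafFor (yoneda.obj W) S.arrows :=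
    fun W => Sheaf.isSheaf_yoneda_obj W S hS
  have hsc := (Presieve.compatible_iff_sieveCompatible x).mp hx
  obtain ⟨t, ht, htu⟩ := hG (GenCat J S) (genDiag J S) (genCocone J S)
    (isColimitGenCocone hrep) (fun d => x d.obj.hom d.property) (by
      intro k l φ
      change G.map ((gen J).map φ.hom.left).op (x l.obj.hom l.property) = x k.obj.hom k.property
      rw [← hsc]
      exact familyOfElements_congr x (CostructuredArrow.w φ.hom) _)
  refine ⟨t, ?_, ?_⟩
  · intro Y f hf
    apply hG.ext
    intro T σ
    rw [← Functor.map_comp_apply, ← op_comp, ← hsc]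
    exact ht (GenCat.mk' J S (σ ≫ f) (S.downward_closed hf _))
  · intro t' ht'
    exact htu t' (fun d => ht' d.obj.hom d.property)

end partA



section partB

variable {C : Type u} [SmallCategory C] (J : GrothendieckTopology C)

/-- sections over `V` of a diagram of sheaves -/
abbrev secFunctor {K : Type u} [SmallCategory K] (D : K ⥤ Sheaf J (Type u)) (V : C) :
    K ⥤ Type u :=
  (D ⋙ sheafToPresheaf J (Type u)) ⋙ (evaluation Cᵒᵖ (Type u)).obj (op V)

variable {J}

/-- (COLIM-LOCAL) sections of a colimit of sheaves which become equal are locally connected by a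
zigzag in the diagram -/
lemma colim_local {K : Type u} [SmallCategory K] {D : K ⥤ Sheaf J (Type u)} (c : Cocone D)
    (hc : IsColimit c) {T : C} {k k' : K} (a : (D.obj k).obj.obj (op T))
    (b : (D.obj k').obj.obj (op T))
    (hab : (c.ι.app k).hom.app (op T) a = (c.ι.app k').hom.app (op T) b) :
    ∃ R ∈ J T, ∀ (V : C) (h : V ⟶ T), R.arrows h →
      Relation.EqvGen (secFunctor J D V).ColimitTypeRel
        ⟨k, (D.obj k).obj.map h.op a⟩ ⟨k', (D.obj k').obj.map h.op b⟩ := by
  let E₀ := colimit.cocone (D ⋙ sheafToPresheaf J (Type u))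
  have hE₀ : IsColimit E₀ := colimit.isColimit _
  let c₀ := Sheaf.sheafifyCocone E₀
  have hc₀ : IsColimit c₀ := Sheaf.isColimitSheafifyCocone E₀ hE₀
  let e := hc.coconePointUniqueUpToIso hc₀
  have he : ∀ j, c.ι.app j ≫ e.hom = c₀.ι.app j := fun j =>
    hc.comp_coconePointUniqueUpToIso_hom hc₀ j
  have h1 : (c₀.ι.app k).hom.app (op T) a = (c₀.ι.app k').hom.app (op T) b := by
    rw [← he k, ← he k']
    exact congr_arg (e.hom.hom.app (op T)) hab
  have h2 : (toSheafify J E₀.pt).app (op T) ((E₀.ι.app k).app (op T) a) =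
      (toSheafify J E₀.pt).app (op T) ((E₀.ι.app k').app (op T) b) := by
    have hk := Sheaf.sheafifyCocone_ι_app_val E₀ k
    have hk' := Sheaf.sheafifyCocone_ι_app_val E₀ k'
    have := h1
    rw [show (c₀.ι.app k).hom = _ from hk, show (c₀.ι.app k').hom = _ from hk'] at this
    exact this
  refine ⟨_, Presheaf.equalizerSieve_mem J (toSheafify J E₀.pt) _ _ h2, ?_⟩
  intro V h hh
  have h3 : (E₀.ι.app k).app (op V) ((D.obj k).obj.map h.op a) =
      (E₀.ι.app k').app (op V) ((D.obj k').obj.map h.op b) := by
    have e1 := NatTrans.naturality_apply (E₀.ι.app k) h.op a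
    have e2 := NatTrans.naturality_apply (E₀.ι.app k') h.op b
    exact e1.trans (Eq.trans hh e2.symm)
  let cV := ((evaluation Cᵒᵖ (Type u)).obj (op V)).mapCocone E₀
  have hcV : IsColimit cV := isColimitOfPreserves _ hE₀
  have hbij := ((Types.isColimit_iff_coconeTypesIsColimit cV).1 ⟨hcV⟩).bijective.1
  rw [← Functor.ιColimitType_eq_iff]
  apply hbij
  exact h3

end partB



section partB2

variable {C : Type u} [SmallCategory C] {J : GrothendieckTopology C}
variable {G : (Sheaf J (Type u))ᵒᵖ ⥤ Type w}

/-- sheaves for the canonical topology are separated with respect to generator maps -/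
lemma isSheaf_ext (hG : Presieve.IsSheaf (Sheaf.canonicalTopology (Sheaf J (Type u))) G)
    {Z : Sheaf J (Type u)} (a b : G.obj (op Z))
    (h : ∀ (T : C) (σ : (gen J).obj T ⟶ Z), G.map σ.op a = G.map σ.op b) : a = b := by
  have hmem : Sieve.ofArrows (fun p : (Σ T : C, ((gen J).obj T ⟶ Z)) => (gen J).obj p.1)
      (fun p => p.2) ∈ Sheaf.canonicalTopology (Sheaf J (Type u)) Z :=
    mem_canonical_of_jointly_epi J _ _ _ (fun p => Sieve.ofArrows_mk _ _ p)
      (fun W x y hxy => hom_ext_gen J x y (fun T σ => hxy ⟨T, σ⟩))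
  apply (hG _ hmem).isSeparatedFor.ext
  intro Y f hf
  rw [Sieve.mem_ofArrows_iff] at hf
  obtain ⟨p, g, rfl⟩ := hf
  rw [op_comp, Functor.map_comp_apply, Functor.map_comp_apply, h]

/-- sheaves for the canonical topology are separated with respect to covering sieves of
the site -/
lemma isSheaf_ext_sieve (hG : Presieve.IsSheaf (Sheaf.canonicalTopology (Sheaf J (Type u))) G)
    {T : C} (R : Sieve T) (hR : R ∈ J T) (a b : G.obj (op ((gen J).obj T)))
    (h : ∀ (V : C) (k : V ⟶ T), R.arrows k → G.map ((gen J).map k).op a =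
      G.map ((gen J).map k).op b) : a = b := by
  have hmem : Sieve.ofArrows (fun p : (Σ V : C, {k : V ⟶ T // R.arrows k}) => (gen J).obj p.1)
      (fun p => (gen J).map p.2.1) ∈
        Sheaf.canonicalTopology (Sheaf J (Type u)) ((gen J).obj T) := by
    refine mem_canonical_of_jointly_epi J _ _ _ (fun p => Sieve.ofArrows_mk _ _ p) ?_
    intro W x y hxy
    apply (secEquiv J W T).injective
    have hW : Presieve.IsSheaf J W.obj := (isSheaf_iff_isSheaf_of_type J W.obj).mp W.property
    apply (hW _ hR).isSeparatedFor.ext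
    intro V k hk
    rw [← secEquiv_map, ← secEquiv_map]
    exact congr_arg _ (hxy ⟨V, k, hk⟩)
  apply (hG _ hmem).isSeparatedFor.ext
  intro Y f hf
  rw [Sieve.mem_ofArrows_iff] at hf
  obtain ⟨p, g, rfl⟩ := hf
  rw [op_comp, Functor.map_comp_apply, Functor.map_comp_apply, h _ _ p.2.2]

/-- (Part B) sheaves for the canonical topology turn small colimits into limits -/
theorem cont_of_isSheaf (hG : Presieve.IsSheaf (Sheaf.canonicalTopology (Sheaf J (Type u))) G) :
    Cont J G := by
  intro K _ D c hc s hs
  have hS₀ : Sieve.ofArrows D.obj c.ι.app ∈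
      Sheaf.canonicalTopology (Sheaf J (Type u)) c.pt :=
    mem_canonical_of_jointly_epi J _ D.obj c.ι.app (fun k => Sieve.ofArrows_mk _ _ k)
      (fun W a b h => hc.hom_ext h)
  have hsh := hG _ hS₀
  rw [Sieve.ofArrows, ← Presieve.isSheafFor_iff_generate, Presieve.isSheafFor_arrows_iff] at hsh
  apply hsh s
  -- the zigzag argument
  intro k k' Z g g' hgg'
  apply isSheaf_ext hG
  intro T σ
  rw [← Functor.map_comp_apply, ← Functor.map_comp_apply, ← op_comp, ← op_comp]
  let a := secEquiv J (D.obj k) T (σ ≫ g)
  let b := secEquiv J (D.obj k') T (σ ≫ g')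
  have hab : (c.ι.app k).hom.app (op T) a = (c.ι.app k').hom.app (op T) b := by
    have e1 := secEquiv_comp J T (σ ≫ g) (c.ι.app k)
    have e2 := secEquiv_comp J T (σ ≫ g') (c.ι.app k')
    rw [Category.assoc] at e1 e2
    rw [hgg'] at e1
    exact e1.symm.trans e2
  obtain ⟨R, hR, hzz⟩ := colim_local c hc a b hab
  apply isSheaf_ext_sieve hG R hR
  intro V h hh
  rw [← Functor.map_comp_apply, ← Functor.map_comp_apply, ← op_comp, ← op_comp]
  -- value attached to a section
  let val : (Σ j, (secFunctor J D V).obj j) → G.obj (op ((gen J).obj V)) :=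
    fun p => G.map ((secEquiv J (D.obj p.1) V).symm p.2).op (s p.1)
  have hval : ∀ p q, Relation.EqvGen (secFunctor J D V).ColimitTypeRel p q → val p = val q := by
    intro p q hpq
    induction hpq with
    | rel p q hr =>
      obtain ⟨j, x⟩ := p
      obtain ⟨l, y⟩ := q
      obtain ⟨φ, hφ⟩ : ∃ φ : j ⟶ l, y = (D.map φ).hom.app (op V) x := hr
      subst hφ
      change G.map ((secEquiv J (D.obj j) V).symm x).op (s j) =
        G.map ((secEquiv J (D.obj l) V).symm ((D.map φ).hom.app (op V) x)).op (s l)
      rw [← secEquiv_symm_comp, op_comp, Functor.map_comp_apply, hs]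
    | refl p => rfl
    | symm p q _ ih => exact ih.symm
    | trans p q r _ _ ih1 ih2 => exact ih1.trans ih2
  have := hval _ _ (hzz V h hh)
  change G.map ((secEquiv J (D.obj k) V).symm ((D.obj k).obj.map h.op a)).op (s k) =
    G.map ((secEquiv J (D.obj k') V).symm ((D.obj k').obj.map h.op b)).op (s k') at this
  rw [← secEquiv_symm_map, ← secEquiv_symm_map] at this
  simpa [a, b] using this

end partB2



section final

variable {C : Type u} [SmallCategory C] {J : GrothendieckTopology C}

lemma cont_of_preservesLimits (G : (Sheaf J (Type u))ᵒᵖ ⥤ Type w)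
    [PreservesLimitsOfSize.{u, u} G] : Cont J G := by
  intro K _ D c hc s hs
  have hl : IsLimit (G.mapCone c.op) := isLimitOfPreserves G hc.op
  obtain ⟨t, ht, htu⟩ := (Types.isLimit_iff (G.mapCone c.op)).mp ⟨hl⟩ (fun k => s k.unop) (by
    intro k l φ
    exact hs l.unop k.unop φ.unop)
  exact ⟨t, fun k => ht (op k), fun t' ht' => htu t' (fun k => ht' k.unop)⟩

lemma preservesLimits_of_cont (G : (Sheaf J (Type u))ᵒᵖ ⥤ Type w) (hG : Cont J G) :
    PreservesLimitsOfSize.{u, u} G := by
  refine ⟨fun {K} _ => ⟨fun {F} => ⟨fun {c} hc => ?_⟩⟩⟩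
  rw [Types.isLimit_iff]
  intro s hs
  have hcol := isColimitCoconeLeftOpOfCone F hc
  obtain ⟨t, ht, htu⟩ := hG Kᵒᵖ F.leftOp (coconeLeftOpOfCone c) hcol (fun k => s k.unop) (by
    intro k l φ
    exact hs φ.unop)
  exact ⟨t, fun j => ht (op j), fun t' ht' => htu t' (fun k => ht' k.unop)⟩

/-- sheaves (with values in any category) for the canonical topology of a topos of sheaves of
sets are exactly the functors turning small colimits into limits -/
theorem isSheaf_canonical_iff {E' : Type v} [Category.{w} E']
    (F : (Sheaf J (Type u))ᵒᵖ ⥤ E') :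
    Presheaf.IsSheaf (Sheaf.canonicalTopology (Sheaf J (Type u))) F ↔
      PreservesLimitsOfSize.{u, u} F := by
  constructor
  · intro h
    have hp : ∀ e' : E', PreservesLimitsOfSize.{u, u} (F ⋙ coyoneda.obj (op e')) :=
      fun e' => preservesLimits_of_cont _ (cont_of_isSheaf (h e'))
    refine ⟨fun {K} _ => ⟨fun {D} => ⟨fun {c} hc => ⟨?_⟩⟩⟩⟩
    apply coyonedaJointlyReflectsLimits
    intro e'
    have := hp e'.unop
    exact isLimitOfPreserves (F ⋙ coyoneda.obj e') hc
  · intro h e'
    exact isSheaf_of_cont (cont_of_preservesLimits (F ⋙ coyoneda.obj (op e')))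

end final

end Groth.Agent.Lib.Helper74.CanonicalTopos
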