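import Mathlib
import Groth.Prelude.Def_SGA4a

/-!
# Closed complement of an open (subterminal) object

General categorical lemmas about the closed complement of a subterminal object `U`:
the objects `Z` with `U ⨯ Z ⟶ U` an isomorphism, and the reflection `X ↦ U ⨿_{U ⨯ X} X`.
-/

set_option autoImplicit false
set_option linter.unusedSectionVars false
universe v' u'
open CategoryTheory CategoryTheory.Limits

namespace Groth.Agent.Lib.Helper74.ClosedCompl

variable {E : Type u'} [Category.{v'} E]

section basic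

variable [HasBinaryProducts E] [HasTerminal E]

omit [HasBinaryProducts E] in
lemma hom_to_subterminal_eq (U : E) [Mono (terminal.from U)] {T : E} (a b : T ⟶ U) : a = b := by
  rw [← cancel_mono (terminal.from U)]; exact Subsingleton.elim _ _

instance mono_prod_snd (U X : E) [Mono (terminal.from U)] : Mono (prod.snd : U ⨯ X ⟶ X) where
  right_cancellation := by
    intro T a b h
    apply Limits.prod.hom_ext
    · exact hom_to_subterminal_eq U _ _
    · exact h

omit [HasTerminal E] in
/-- the square `U ⨯ X → X`, `U ⨯ X → U ⨯ X'`, over `m : X → X'` is always cartesian -/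
lemma isPullback_prod_snd (U : E) {X X' : E} (m : X ⟶ X') :
    IsPullback (prod.snd : U ⨯ X ⟶ X) (prod.map (𝟙 U) m) m (prod.snd : U ⨯ X' ⟶ X') := by
  refine ⟨⟨by rw [prod.map_snd]⟩, ⟨PullbackCone.IsLimit.mk _
    (fun s => prod.lift (s.snd ≫ prod.fst) s.fst) ?_ ?_ ?_⟩⟩
  · intro s
    rw [prod.lift_snd]
  · intro s
    apply Limits.prod.hom_ext
    · rw [Category.assoc, prod.map_fst, Category.comp_id, prod.lift_fst]
    · rw [Category.assoc, prod.map_snd, ← Category.assoc, prod.lift_snd, s.condition]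
  · intro s l h1 h2
    apply Limits.prod.hom_ext
    · rw [prod.lift_fst, ← h2, Category.assoc, prod.map_fst, Category.comp_id]
    · rw [prod.lift_snd, ← h1]

end basic


section reflection

variable [HasBinaryProducts E] [HasTerminal E] [HasPushouts E]

/-- the pushout `U ⨿_{U ⨯ Y} Y` lies in the closed complement of `U`. -/
lemma closedCompl_pushout (U Y : E) [Mono (terminal.from U)]
    [PreservesColimitsOfShape WalkingSpan (prod.functor.obj U)] :
    SGA4.closedCompl U (pushout (prod.fst : U ⨯ Y ⟶ U) (prod.snd : U ⨯ Y ⟶ Y)) := by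
  change IsIso (prod.fst : U ⨯ pushout (prod.fst : U ⨯ Y ⟶ U) (prod.snd : U ⨯ Y ⟶ Y) ⟶ U)
  have huniq : ∀ {T : E} (a b : T ⟶ U), a = b := fun a b => hom_to_subterminal_eq U a b
  have hpo : IsPushout (prod.fst : U ⨯ Y ⟶ U) (prod.snd : U ⨯ Y ⟶ Y)
      (pushout.inl _ _) (pushout.inr _ _) := IsPushout.of_hasPushout _ _
  have hpo' := hpo.map (prod.functor.obj U)
  have hiso : IsIso ((prod.functor.obj U).map (prod.snd : U ⨯ Y ⟶ Y)) := by
    change IsIso (prod.map (𝟙 U) (prod.snd : U ⨯ Y ⟶ Y))
    refine ⟨prod.lift prod.fst (𝟙 (U ⨯ Y)), ?_, ?_⟩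
    · apply Limits.prod.hom_ext
      · exact huniq _ _
      · rw [Category.assoc, prod.lift_snd, Category.comp_id, Category.id_comp]
        apply Limits.prod.hom_ext
        · exact huniq _ _
        · rw [prod.map_snd]
    · apply Limits.prod.hom_ext
      · exact huniq _ _
      · rw [Category.assoc, prod.map_snd, ← Category.assoc, prod.lift_snd, Category.id_comp]
  have hinl : IsIso (prod.map (𝟙 U)
      (pushout.inl (prod.fst : U ⨯ Y ⟶ U) (prod.snd : U ⨯ Y ⟶ Y))) :=
    hpo'.isIso_inl_of_isIso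
  have hfstUU : IsIso (prod.fst : U ⨯ U ⟶ U) :=
    ⟨prod.lift (𝟙 U) (𝟙 U), by
      apply Limits.prod.hom_ext
      · exact huniq _ _
      · exact huniq _ _, by rw [prod.lift_fst]⟩
  have hcomp : prod.map (𝟙 U) (pushout.inl (prod.fst : U ⨯ Y ⟶ U) (prod.snd : U ⨯ Y ⟶ Y)) ≫
      prod.fst = (prod.fst : U ⨯ U ⟶ U) := by
    rw [prod.map_fst, Category.comp_id]
  have : (prod.fst : U ⨯ pushout (prod.fst : U ⨯ Y ⟶ U) (prod.snd : U ⨯ Y ⟶ Y) ⟶ U) =
      inv (prod.map (𝟙 U) (pushout.inl (prod.fst : U ⨯ Y ⟶ U) (prod.snd : U ⨯ Y ⟶ Y))) ≫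
        (prod.fst : U ⨯ U ⟶ U) := by
    rw [IsIso.eq_inv_comp, hcomp]
  rw [this]; infer_instance

omit [HasPushouts E] in
/-- maps into an object of the closed complement from an object over `U` are unique -/
lemma hom_closedCompl_eq (U : E) [Mono (terminal.from U)] {Z : E} (hZ : SGA4.closedCompl U Z)
    {T : E} (a : T ⟶ U) (b b' : T ⟶ Z) : b = b' := by
  have : IsIso (prod.fst : U ⨯ Z ⟶ U) := hZ
  have h : prod.lift a b = prod.lift a b' := by
    rw [← cancel_mono (prod.fst : U ⨯ Z ⟶ U), prod.lift_fst, prod.lift_fst]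
  have := congrArg (fun k => k ≫ (prod.snd : U ⨯ Z ⟶ Z)) h
  simp only [prod.lift_snd] at this
  exact this

omit [HasPushouts E] in
/-- the map into an object of the closed complement from an object over `U` -/
noncomputable def toClosedCompl (U : E) {Z : E} (hZ : SGA4.closedCompl U Z)
    {T : E} (a : T ⟶ U) : T ⟶ Z :=
  have : IsIso (prod.fst : U ⨯ Z ⟶ U) := hZ
  a ≫ inv (prod.fst : U ⨯ Z ⟶ U) ≫ prod.snd

variable (U : E) [Mono (terminal.from U)]
  [PreservesColimitsOfShape WalkingSpan (prod.functor.obj U)]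

/-- the reflector onto the closed complement: `X ↦ U ⨿_{U ⨯ X} X`, on morphisms. -/
noncomputable def poMap {X Y : E} (m : X ⟶ Y) :
    pushout (prod.fst : U ⨯ X ⟶ U) (prod.snd : U ⨯ X ⟶ X) ⟶
      pushout (prod.fst : U ⨯ Y ⟶ U) (prod.snd : U ⨯ Y ⟶ Y) :=
  pushout.desc (pushout.inl _ _) (m ≫ pushout.inr _ _) (by
    have h1 : (prod.fst : U ⨯ X ⟶ U) = prod.map (𝟙 U) m ≫ prod.fst := by
      rw [prod.map_fst, Category.comp_id]
    rw [h1, Category.assoc, pushout.condition, ← Category.assoc, prod.map_snd, Category.assoc])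

omit [Mono (terminal.from U)] [PreservesColimitsOfShape WalkingSpan (prod.functor.obj U)] in
@[reassoc (attr := simp)]
lemma inl_poMap {X Y : E} (m : X ⟶ Y) :
    pushout.inl (prod.fst : U ⨯ X ⟶ U) (prod.snd : U ⨯ X ⟶ X) ≫ poMap U m =
      pushout.inl _ _ :=
  pushout.inl_desc _ _ _

omit [Mono (terminal.from U)] [PreservesColimitsOfShape WalkingSpan (prod.functor.obj U)] in
@[reassoc (attr := simp)]
lemma inr_poMap {X Y : E} (m : X ⟶ Y) :
    pushout.inr (prod.fst : U ⨯ X ⟶ U) (prod.snd : U ⨯ X ⟶ X) ≫ poMap U m =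
      m ≫ pushout.inr _ _ :=
  pushout.inr_desc _ _ _

/-- the reflector onto the closed complement: `X ↦ U ⨿_{U ⨯ X} X`. -/
noncomputable def poFunctor : E ⥤ (SGA4.closedCompl U).FullSubcategory where
  obj X := ⟨pushout (prod.fst : U ⨯ X ⟶ U) (prod.snd : U ⨯ X ⟶ X), closedCompl_pushout U X⟩
  map {X Y} m := ObjectProperty.homMk (poMap U m)
  map_id X := by
    apply ObjectProperty.hom_ext
    apply pushout.hom_ext
    · exact (inl_poMap U _).trans (Category.comp_id _).symm
    · exact (inr_poMap U _).trans ((Category.id_comp _).trans (Category.comp_id _).symm)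
  map_comp {X Y Z} f g := by
    apply ObjectProperty.hom_ext
    apply pushout.hom_ext
    · change pushout.inl _ _ ≫ poMap U (f ≫ g) = pushout.inl _ _ ≫ poMap U f ≫ poMap U g
      rw [inl_poMap, inl_poMap_assoc, inl_poMap]
    · change pushout.inr _ _ ≫ poMap U (f ≫ g) = pushout.inr _ _ ≫ poMap U f ≫ poMap U g
      rw [inr_poMap, inr_poMap_assoc, inr_poMap, Category.assoc]

lemma poFunctor_map_hom {X Y : E} (m : X ⟶ Y) : ((poFunctor U).map m).hom = poMap U m := rfl

/-- the inverse of the hom-equivalence. -/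
noncomputable def poDesc {X : E} (Z : (SGA4.closedCompl U).FullSubcategory) (b : X ⟶ Z.obj) :
    pushout (prod.fst : U ⨯ X ⟶ U) (prod.snd : U ⨯ X ⟶ X) ⟶ Z.obj :=
  pushout.desc (toClosedCompl U Z.property (𝟙 U)) b
    (hom_closedCompl_eq U Z.property prod.fst _ _)

omit [PreservesColimitsOfShape WalkingSpan (prod.functor.obj U)] in
@[reassoc (attr := simp)]
lemma inr_poDesc {X : E} (Z : (SGA4.closedCompl U).FullSubcategory) (b : X ⟶ Z.obj) :
    pushout.inr (prod.fst : U ⨯ X ⟶ U) (prod.snd : U ⨯ X ⟶ X) ≫ poDesc U Z b = b :=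
  pushout.inr_desc _ _ _

omit [PreservesColimitsOfShape WalkingSpan (prod.functor.obj U)] in
lemma po_hom_ext {X : E} (Z : (SGA4.closedCompl U).FullSubcategory)
    (g g' : pushout (prod.fst : U ⨯ X ⟶ U) (prod.snd : U ⨯ X ⟶ X) ⟶ Z.obj)
    (h : pushout.inr _ _ ≫ g = pushout.inr _ _ ≫ g') : g = g' := by
  apply pushout.hom_ext
  · exact hom_closedCompl_eq U Z.property (𝟙 U) _ _
  · exact h

/-- the reflection adjunction. -/
noncomputable def poAdj : poFunctor U ⊣ (SGA4.closedCompl U).ι :=
  Adjunction.mkOfHomEquiv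
    { homEquiv := fun X Z =>
        { toFun := fun g => pushout.inr _ _ ≫ g.hom
          invFun := fun b => ObjectProperty.homMk (poDesc U Z b)
          left_inv := fun g => by
            apply ObjectProperty.hom_ext
            apply po_hom_ext U Z
            exact inr_poDesc U Z _
          right_inv := fun b => inr_poDesc U Z b }
      homEquiv_naturality_left_symm := fun {X' X Z} f g => by
        apply ObjectProperty.hom_ext
        apply po_hom_ext U Z
        change pushout.inr _ _ ≫ poDesc U Z (f ≫ g) =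
          pushout.inr _ _ ≫ poMap U f ≫ poDesc U Z g
        rw [inr_poDesc, inr_poMap_assoc, inr_poDesc]
      homEquiv_naturality_right := fun {X Z Z'} f g => by
        change pushout.inr _ _ ≫ f.hom ≫ g.hom = (pushout.inr _ _ ≫ f.hom) ≫ g.hom
        rw [Category.assoc] }

lemma poAdj_unit_app (X : E) :
    (poAdj U).unit.app X = pushout.inr (prod.fst : U ⨯ X ⟶ U) (prod.snd : U ⨯ X ⟶ X) := by
  change pushout.inr _ _ ≫ 𝟙 _ = _
  rw [Category.comp_id]

end reflection


section cart
open MonoidalCategory CartesianMonoidalCategory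

universe v'' u''

variable {E' : Type u''} [Category.{v''} E'] [CartesianMonoidalCategory E'] [HasBinaryProducts E']

/-- `Z ⨯ T ≅ Z ⊗ T`, naturally in `T`. -/
noncomputable def prodIsoTensor (Z : E') :
    prod.functor.obj Z ≅ tensorLeft Z :=
  NatIso.ofComponents
    (fun T => (limit.isLimit (pair Z T)).conePointUniqueUpToIso
      (CartesianMonoidalCategory.tensorProductIsBinaryProduct Z T))
    (by
      intro T T' f
      have hfst : ∀ T, ((limit.isLimit (pair Z T)).conePointUniqueUpToIso
          (CartesianMonoidalCategory.tensorProductIsBinaryProduct Z T)).hom ≫ fst Z T = prod.fst :=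
        fun T => IsLimit.conePointUniqueUpToIso_hom_comp (limit.isLimit (pair Z T))
          (CartesianMonoidalCategory.tensorProductIsBinaryProduct Z T) (Discrete.mk WalkingPair.left)
      have hsnd : ∀ T, ((limit.isLimit (pair Z T)).conePointUniqueUpToIso
          (CartesianMonoidalCategory.tensorProductIsBinaryProduct Z T)).hom ≫ snd Z T = prod.snd :=
        fun T => IsLimit.conePointUniqueUpToIso_hom_comp (limit.isLimit (pair Z T))
          (CartesianMonoidalCategory.tensorProductIsBinaryProduct Z T) (Discrete.mk WalkingPair.right)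
      have hw1 : (tensorLeft Z).map f ≫ fst Z T' = fst Z T := whiskerLeft_fst Z f
      have hw2 : (tensorLeft Z).map f ≫ snd Z T' = snd Z T ≫ f := whiskerLeft_snd Z f
      change (prod.map (𝟙 Z) f : Z ⨯ T ⟶ Z ⨯ T') ≫
        ((limit.isLimit (pair Z T')).conePointUniqueUpToIso
          (CartesianMonoidalCategory.tensorProductIsBinaryProduct Z T')).hom =
        ((limit.isLimit (pair Z T)).conePointUniqueUpToIso
          (CartesianMonoidalCategory.tensorProductIsBinaryProduct Z T)).hom ≫ (tensorLeft Z).map f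
      apply CartesianMonoidalCategory.hom_ext
      · rw [Category.assoc, Category.assoc, hfst, hw1, hfst, prod.map_fst, Category.comp_id]
      · rw [Category.assoc, Category.assoc, hsnd, hw2, ← Category.assoc, hsnd, prod.map_snd])

lemma preservesColimitsOfShape_prod_functor [MonoidalClosed E'] (U : E') :
    PreservesColimitsOfShape WalkingSpan (prod.functor.obj U) := by
  have h1 : PreservesColimitsOfSize.{0, 0} (tensorLeft U) :=
    (ihom.adjunction U).leftAdjoint_preservesColimits
  have h2 : PreservesColimitsOfShape WalkingSpan (tensorLeft U) := inferInstance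
  exact preservesColimitsOfShape_of_natIso (prodIsoTensor U).symm

/-- for sheaves of sets -/
lemma preservesColimitsOfShape_prod_functor_sheaf {C : Type u''} [SmallCategory C]
    (J : GrothendieckTopology C) (U : Sheaf J (Type u'')) :
    PreservesColimitsOfShape WalkingSpan (prod.functor.obj U) :=
  @preservesColimitsOfShape_prod_functor _ _ _ _
    (inferInstance : MonoidalClosed (Sheaf J (Type u''))) U

end cart

section vanKampen

variable [HasBinaryProducts E] [HasTerminal E] [HasPushouts E] [Adhesive E]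

/-- the key square is cartesian iff `m` restricts to an isomorphism over `U`. -/
theorem isPullback_inr_iff (U : E) [Mono (terminal.from U)] {X X' : E} (m : X ⟶ X')
    (k : pushout (prod.fst : U ⨯ X ⟶ U) (prod.snd : U ⨯ X ⟶ X) ⟶
      pushout (prod.fst : U ⨯ X' ⟶ U) (prod.snd : U ⨯ X' ⟶ X'))
    (hk₁ : pushout.inl (prod.fst : U ⨯ X ⟶ U) (prod.snd : U ⨯ X ⟶ X) ≫ k =
      pushout.inl (prod.fst : U ⨯ X' ⟶ U) (prod.snd : U ⨯ X' ⟶ X'))
    (hk₂ : pushout.inr (prod.fst : U ⨯ X ⟶ U) (prod.snd : U ⨯ X ⟶ X) ≫ k =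
      m ≫ pushout.inr (prod.fst : U ⨯ X' ⟶ U) (prod.snd : U ⨯ X' ⟶ X')) :
    IsPullback m (pushout.inr (prod.fst : U ⨯ X ⟶ U) (prod.snd : U ⨯ X ⟶ X))
        (pushout.inr (prod.fst : U ⨯ X' ⟶ U) (prod.snd : U ⨯ X' ⟶ X')) k ↔
      IsIso (prod.map (𝟙 U) m) := by
  constructor
  · intro hpb
    -- the inverse
    let n : U ⨯ X' ⟶ X := hpb.lift (prod.snd) (prod.fst ≫ pushout.inl _ _) (by
      rw [Category.assoc, hk₁, pushout.condition])
    have hn1 : n ≫ m = prod.snd := hpb.lift_fst _ _ _
    have hn2 : n ≫ pushout.inr _ _ = prod.fst ≫ pushout.inl _ _ := hpb.lift_snd _ _ _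
    refine ⟨prod.lift prod.fst n, ?_, ?_⟩
    · apply Limits.prod.hom_ext
      · exact hom_to_subterminal_eq U _ _
      · rw [Category.assoc, prod.lift_snd, Category.id_comp]
        apply hpb.hom_ext
        · rw [Category.assoc, hn1, prod.map_snd]
        · rw [Category.assoc, hn2, ← Category.assoc, prod.map_fst, Category.comp_id,
            pushout.condition]
    · apply Limits.prod.hom_ext
      · exact hom_to_subterminal_eq U _ _
      · rw [Category.assoc, prod.map_snd, ← Category.assoc, prod.lift_snd, hn1, Category.id_comp]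
  · intro hiso
    have H : IsPushout (prod.fst : U ⨯ X' ⟶ U) (prod.snd : U ⨯ X' ⟶ X')
        (pushout.inl _ _) (pushout.inr _ _) := IsPushout.of_hasPushout _ _
    have HVK := Adhesive.van_kampen' H
    have hback1 : IsPullback (prod.fst : U ⨯ X ⟶ U) (prod.map (𝟙 U) m) (𝟙 U)
        (prod.fst : U ⨯ X' ⟶ U) :=
      IsPullback.of_vert_isIso ⟨by rw [prod.map_fst]⟩
    have hback2 := isPullback_prod_snd U m
    have := (HVK (prod.fst : U ⨯ X ⟶ U) (prod.snd : U ⨯ X ⟶ X) (pushout.inl _ _) (pushout.inr _ _)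
      (prod.map (𝟙 U) m) (𝟙 U) m k hback1 hback2 ⟨by rw [hk₁, Category.id_comp]⟩ ⟨hk₂⟩
      ⟨pushout.condition⟩).mp (IsPushout.of_hasPushout _ _)
    exact this.2.flip

end vanKampen

end Groth.Agent.Lib.Helper74.ClosedCompl
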