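import Mathlib
import Groth.Prelude.Def_SGA4a
import Groth.Agent.Lib.Helper74.ClosedCompl

/-!
# The closed topology attached to a subterminal presheaf

For a site `(C, J)` and a presheaf `U` (thought of as an open of the topos of sheaves),
`closedTopology J U` is the topology whose covering sieves are the sieves `S` such that
`S ⊔ {f | U (dom f) is inhabited}` is `J`-covering. Its sheaves are the `J`-sheaves in the
closed complement of `U`.
-/

set_option autoImplicit false
set_option linter.unusedSectionVars false
universe u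
open CategoryTheory CategoryTheory.Limits Opposite

namespace Groth.Agent.Lib.Helper74.ClosedTopology

variable {C : Type u} [SmallCategory C]

/-- the sieve of arrows whose source carries a section of `U`. -/
def inhabSieve (U : Cᵒᵖ ⥤ Type u) (X : C) : Sieve X where
  arrows Y _ := Nonempty (U.obj (op Y))
  downward_closed := by
    rintro Y Z f ⟨u⟩ g
    exact ⟨U.map g.op u⟩

lemma inhabSieve_apply (U : Cᵒᵖ ⥤ Type u) {X Y : C} (f : Y ⟶ X) :
    inhabSieve U X f ↔ Nonempty (U.obj (op Y)) := Iff.rfl

lemma inhabSieve_pullback (U : Cᵒᵖ ⥤ Type u) {X Y : C} (f : Y ⟶ X) :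
    (inhabSieve U X).pullback f = inhabSieve U Y := by
  ext Z g
  exact Iff.rfl

lemma inhabSieve_eq_top (U : Cᵒᵖ ⥤ Type u) {X : C} (h : Nonempty (U.obj (op X))) :
    inhabSieve U X = ⊤ := by
  rw [← Sieve.id_mem_iff_eq_top]
  exact h

lemma pullback_sup {X Y : C} (S R : Sieve X) (f : Y ⟶ X) :
    (S ⊔ R).pullback f = S.pullback f ⊔ R.pullback f := by
  ext Z g
  exact Iff.rfl

/-- the closed topology. -/
def closedTopology (J : GrothendieckTopology C) (U : Cᵒᵖ ⥤ Type u) : GrothendieckTopology C where
  sieves X := {S | S ⊔ inhabSieve U X ∈ J X}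
  top_mem' X := by
    change ⊤ ⊔ inhabSieve U X ∈ J X
    rw [top_sup_eq]
    exact J.top_mem X
  pullback_stable' := by
    intro X Y S f hS
    change S.pullback f ⊔ inhabSieve U Y ∈ J Y
    rw [← inhabSieve_pullback U f, ← pullback_sup]
    exact J.pullback_stable f hS
  transitive' := by
    intro X S hS R hR
    change R ⊔ inhabSieve U X ∈ J X
    refine J.transitive hS _ ?_
    intro Y f hf
    rcases hf with hf | hf
    · have := hR hf
      change R.pullback f ⊔ inhabSieve U Y ∈ J Y at this
      rw [pullback_sup, inhabSieve_pullback]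
      exact this
    · have : (R ⊔ inhabSieve U X) f := Or.inr hf
      rw [(Sieve.mem_iff_pullback_eq_top f).mp this]
      exact J.top_mem Y

lemma mem_closedTopology (J : GrothendieckTopology C) (U : Cᵒᵖ ⥤ Type u) {X : C} (S : Sieve X) :
    S ∈ closedTopology J U X ↔ S ⊔ inhabSieve U X ∈ J X := Iff.rfl

lemma le_closedTopology (J : GrothendieckTopology C) (U : Cᵒᵖ ⥤ Type u) :
    J ≤ closedTopology J U := by
  intro X S hS
  exact J.superset_covering le_sup_left hS

lemma bot_mem_closedTopology (J : GrothendieckTopology C) (U : Cᵒᵖ ⥤ Type u) {X : C}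
    (h : Nonempty (U.obj (op X))) : (⊥ : Sieve X) ∈ closedTopology J U X := by
  change ⊥ ⊔ inhabSieve U X ∈ J X
  rw [bot_sup_eq, inhabSieve_eq_top U h]
  exact J.top_mem X

/-- sectionwise triviality over `U`. -/
def TrivOver (U Z : Cᵒᵖ ⥤ Type u) : Prop :=
  ∀ T : C, Nonempty (U.obj (op T)) → Nonempty (Unique (Z.obj (op T)))

/-- a presheaf which is trivial over `U` is a sheaf for every sieve on an object where `U` has
a section. -/
lemma isSheafFor_of_trivOver {U Z : Cᵒᵖ ⥤ Type u} (h : TrivOver U Z) {X : C}
    (hX : Nonempty (U.obj (op X))) (S : Sieve X) : Presieve.IsSheafFor Z S.arrows := by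
  intro x hx
  obtain ⟨hu⟩ := h X hX
  refine ⟨hu.default, ?_, fun t _ => hu.uniq t⟩
  intro Y f hf
  obtain ⟨u⟩ := hX
  obtain ⟨hY⟩ := h Y ⟨U.map f.op u⟩
  exact (hY.uniq _).trans (hY.uniq _).symm

/-- a `J`-sheaf which is trivial over `U` is a sheaf for the closed topology. -/
lemma isSheaf_closedTopology_of_trivOver (J : GrothendieckTopology C) {U Z : Cᵒᵖ ⥤ Type u}
    (hZ : Presieve.IsSheaf J Z) (h : TrivOver U Z) :
    Presieve.IsSheaf (closedTopology J U) Z := by
  intro X S hS
  have hS' : S ⊔ inhabSieve U X ∈ J X := hS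
  refine Presieve.isSheafFor_trans Z (S ⊔ inhabSieve U X) S (hZ _ hS') ?_ ?_
  · intro Y f _
    exact (hZ _ (J.pullback_stable f hS')).isSeparatedFor
  · intro Y f hf
    rcases hf with hf | hf
    · rw [(Sieve.mem_iff_pullback_eq_top f).mp hf]
      exact Presieve.isSheafFor_top Z
    · exact isSheafFor_of_trivOver h hf _

/-- a sheaf for the closed topology is trivial over `U`. -/
lemma trivOver_of_isSheaf_closedTopology (J : GrothendieckTopology C) {U Z : Cᵒᵖ ⥤ Type u}
    (hZ : Presieve.IsSheaf (closedTopology J U) Z) : TrivOver U Z := by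
  intro T hT
  have h := hZ _ (bot_mem_closedTopology J U hT)
  let x : Presieve.FamilyOfElements Z (⊥ : Sieve T).arrows := fun Y f hf => False.elim hf
  have hx : x.Compatible := by
    intro Y₁ Y₂ W g₁ g₂ f₁ f₂ h₁ h₂ _
    exact False.elim h₁
  obtain ⟨t, _, ht⟩ := h x hx
  refine ⟨⟨⟨t⟩, fun t' => ht t' ?_⟩⟩
  intro Y f hf
  exact False.elim hf


section sheaves

open Groth.Agent.Lib.Helper74.ClosedCompl

variable (J : GrothendieckTopology C)

/-- sections of a sheaf as morphisms from the sheafified representable. -/
noncomputable def sectionsEquiv (Z : Sheaf J (Type u)) (T : C) :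
    ((presheafToSheaf J (Type u)).obj (yoneda.obj T) ⟶ Z) ≃ Z.obj.obj (op T) :=
  ((sheafificationAdjunction J (Type u)).homEquiv (yoneda.obj T) Z).trans yonedaEquiv

/-- an object of the closed complement of `U` is sectionwise trivial over `U`. -/
lemma trivOver_of_closedCompl (U Z : Sheaf J (Type u)) [Mono (terminal.from U)]
    (hZ : SGA4.closedCompl U Z) : TrivOver U.obj Z.obj := by
  rintro T ⟨u⟩
  let a : (presheafToSheaf J (Type u)).obj (yoneda.obj T) ⟶ U := (sectionsEquiv J U T).symm u
  refine ⟨⟨⟨sectionsEquiv J Z T (toClosedCompl U hZ a)⟩, fun z => ?_⟩⟩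
  apply (sectionsEquiv J Z T).symm.injective
  exact hom_closedCompl_eq U hZ a _ _

/-- maps into a sheaf trivial over `U` from an object over `U` are unique. -/
lemma hom_eq_of_trivOver {U Z T : Sheaf J (Type u)} (h : TrivOver U.obj Z.obj) (a : T ⟶ U)
    (b b' : T ⟶ Z) : b = b' := by
  apply Sheaf.hom_ext
  ext V t
  obtain ⟨hV⟩ := h V.unop ⟨a.hom.app V t⟩
  exact (hV.uniq _).trans (hV.uniq _).symm

/-- the section `U ⟶ Z` when `Z` is trivial over `U`. -/
noncomputable def sectionOfTrivOver {U Z : Sheaf J (Type u)} (h : TrivOver U.obj Z.obj) : U ⟶ Z :=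
  ObjectProperty.homMk
    { app := fun V => ↾(fun u => (Classical.choice (h V.unop ⟨u⟩)).default)
      naturality := by
        intro V W f
        ext u
        obtain ⟨hW⟩ := h W.unop ⟨U.obj.map f u⟩
        exact (hW.uniq _).trans (hW.uniq _).symm }

/-- a sheaf sectionwise trivial over `U` is in the closed complement of `U`. -/
lemma closedCompl_of_trivOver (U Z : Sheaf J (Type u)) [Mono (terminal.from U)]
    (h : TrivOver U.obj Z.obj) : SGA4.closedCompl U Z := by
  change IsIso (prod.fst : U ⨯ Z ⟶ U)
  refine ⟨prod.lift (𝟙 U) (sectionOfTrivOver J h), ?_, prod.lift_fst _ _⟩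
  apply Limits.prod.hom_ext
  · exact hom_to_subterminal_eq U _ _
  · exact hom_eq_of_trivOver J h prod.fst _ _

lemma closedCompl_iff_trivOver (U Z : Sheaf J (Type u)) [Mono (terminal.from U)] :
    SGA4.closedCompl U Z ↔ TrivOver U.obj Z.obj :=
  ⟨trivOver_of_closedCompl J U Z, closedCompl_of_trivOver J U Z⟩

end sheaves


section reflector

open Groth.Agent.Lib.Helper74.ClosedCompl

variable (J : GrothendieckTopology C) (U : Sheaf J (Type u)) [Mono (terminal.from U)]

/-- closed complement → sheaves for the closed topology -/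
noncomputable def toSheafClosed :
    (SGA4.closedCompl U).FullSubcategory ⥤ Sheaf (closedTopology J U.obj) (Type u) where
  obj Z := ⟨Z.obj.obj, (isSheaf_iff_isSheaf_of_type _ _).mpr
    (isSheaf_closedTopology_of_trivOver J ((isSheaf_iff_isSheaf_of_type _ _).mp Z.obj.property)
      (trivOver_of_closedCompl J U Z.obj Z.property))⟩
  map f := ObjectProperty.homMk f.hom.hom

/-- it is fully faithful -/
noncomputable def fullyFaithfulToSheafClosed : (toSheafClosed J U).FullyFaithful where
  preimage g := ObjectProperty.homMk (ObjectProperty.homMk g.hom)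

/-- sheaves for the closed topology → closed complement -/
noncomputable def ofSheafClosed :
    Sheaf (closedTopology J U.obj) (Type u) ⥤ (SGA4.closedCompl U).FullSubcategory where
  obj W := ⟨⟨W.obj, (isSheaf_iff_isSheaf_of_type _ _).mpr
      (Presieve.isSheaf_of_le _ (le_closedTopology J U.obj)
        ((isSheaf_iff_isSheaf_of_type _ _).mp W.property))⟩,
    closedCompl_of_trivOver J U _
      (trivOver_of_isSheaf_closedTopology J ((isSheaf_iff_isSheaf_of_type _ _).mp W.property))⟩
  map g := ObjectProperty.homMk (ObjectProperty.homMk g.hom)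

/-- the reflector defined through sheafification for the closed topology -/
noncomputable def Lc : Sheaf J (Type u) ⥤ (SGA4.closedCompl U).FullSubcategory :=
  sheafToPresheaf J (Type u) ⋙ presheafToSheaf (closedTopology J U.obj) (Type u) ⋙ ofSheafClosed J U

/-- first compatibility -/
noncomputable def comm1 :
    sheafToPresheaf J (Type u) ⋙ presheafToSheaf (closedTopology J U.obj) (Type u) ≅
      Lc J U ⋙ toSheafClosed J U :=
  NatIso.ofComponents (fun X => Iso.refl _) (by
    intro X Y f
    apply Sheaf.hom_ext
    rfl)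

/-- second compatibility -/
noncomputable def comm2 :
    toSheafClosed J U ⋙ sheafToPresheaf (closedTopology J U.obj) (Type u) ≅
      (SGA4.closedCompl U).ι ⋙ sheafToPresheaf J (Type u) :=
  NatIso.ofComponents (fun X => Iso.refl _) (by
    intro X Y f
    rfl)

/-- the adjunction -/
noncomputable def adjc : Lc J U ⊣ (SGA4.closedCompl U).ι :=
  (sheafificationAdjunction (closedTopology J U.obj) (Type u)).restrictFullyFaithful
    (fullyFaithfulSheafToPresheaf J (Type u)) (fullyFaithfulToSheafClosed J U)
    (comm1 J U) (comm2 J U)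

end reflector


section lex

open Groth.Agent.Lib.Helper74.ClosedCompl

variable (J : GrothendieckTopology C) (U : Sheaf J (Type u)) [Mono (terminal.from U)]

instance : (ofSheafClosed J U).Full where
  map_surjective f := ⟨ObjectProperty.homMk f.hom.hom, rfl⟩

instance : (ofSheafClosed J U).Faithful where
  map_injective {W W'} f g h := by
    apply Sheaf.hom_ext
    exact congrArg (fun k => k.hom.hom) h

instance : (ofSheafClosed J U).EssSurj where
  mem_essImage Z := ⟨(toSheafClosed J U).obj Z, ⟨Iso.refl _⟩⟩

instance : (ofSheafClosed J U).IsEquivalence := {}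

instance : PreservesFiniteLimits (Lc J U) := by
  have h1 : PreservesFiniteLimits (sheafToPresheaf J (Type u)) := inferInstance
  have h2 : PreservesFiniteLimits (presheafToSheaf (closedTopology J U.obj) (Type u)) :=
    inferInstance
  have h3 : PreservesFiniteLimits (ofSheafClosed J U) := inferInstance
  unfold Lc
  infer_instance

/-- the reflector `X ↦ U ⨿_{U ⨯ X} X` onto the closed complement preserves finite limits. -/
theorem preservesFiniteLimits_poFunctor
    [PreservesColimitsOfShape WalkingSpan (prod.functor.obj U)] :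
    PreservesFiniteLimits (poFunctor U) :=
  preservesFiniteLimits_of_natIso ((adjc J U).leftAdjointUniq (poAdj U))

end lex

end Groth.Agent.Lib.Helper74.ClosedTopology
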