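import Mathlib
import Groth.Prelude.Def_SGA4c
import Groth.Agent.Lib.Helper28.ToposFin7
import Groth.Agent.Lib.Helper28.ToposFin4
import Groth.Agent.Lib.Helper74.CanonicalTopos

/-!
# Filtered colimits in a topos of sheaves of sets and quasi-compact objects
-/

set_option autoImplicit false
set_option linter.unusedSectionVars false
universe u
open CategoryTheory CategoryTheory.Limits Opposite

namespace Groth.Agent.Lib.Helper74.ToposFilt

open Groth.Agent.Lib.Helper28

variable {C : Type u} [SmallCategory C] {J : GrothendieckTopology C}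

/-- a family of morphisms of sheaves which is locally jointly surjective on sections is jointly
epimorphic -/
lemma jointlyEpi_of_locally_surjective {X : ToposFin.Sh J} {ι : Type*} {F : ι → ToposFin.Sh J}
    (π : ∀ i, F i ⟶ X)
    (h : ∀ (U : C) (x : X.obj.obj (op U)), ∃ S ∈ J U, ∀ ⦃V : C⦄ (g : V ⟶ U), S g →
      ∃ (i : ι) (y : (F i).obj.obj (op V)), (π i).hom.app (op V) y = X.obj.map g.op x) :
    JointlyEpi π := by
  intro Z a b hab
  apply Sheaf.hom_ext
  ext ⟨U⟩ x
  obtain ⟨S, hS, hx⟩ := h U x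
  have hZ : Presieve.IsSheaf J Z.obj := (isSheaf_iff_isSheaf_of_type _ _).mp Z.property
  apply (hZ _ hS).isSeparatedFor.ext
  intro V g hg
  obtain ⟨i, y, hy⟩ := hx g hg
  have e1 := NatTrans.naturality_apply a.hom g.op x
  have e2 := NatTrans.naturality_apply b.hom g.op x
  refine e1.symm.trans (Eq.trans ?_ e2)
  rw [← hy]
  exact congr_fun (congr_arg (fun φ => (φ.hom.app (op V) : _ → _)) (hab i)) y

section filtered

variable {I : Type u} [SmallCategory I] [IsFiltered I] (D : I ⥤ ToposFin.Sh J)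

/-- two sections of a term of a filtered diagram of sheaves with the same image in the colimit
become equal, locally, further in the diagram -/
lemma locally_eq_of_colimit_eq {c : Cocone D} (hc : IsColimit c) (i : I) (U : C)
    (y y' : (D.obj i).obj.obj (op U))
    (h : (c.ι.app i).hom.app (op U) y = (c.ι.app i).hom.app (op U) y') :
    ∃ S ∈ J U, ∀ ⦃V : C⦄ (g : V ⟶ U), S g → ∃ (j : I) (φ : i ⟶ j),
      (D.map φ).hom.app (op V) ((D.obj i).obj.map g.op y) =
        (D.map φ).hom.app (op V) ((D.obj i).obj.map g.op y') := by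
  obtain ⟨E, hE⟩ : ∃ E : Cocone (D ⋙ sheafToPresheaf J (Type u)), Nonempty (IsColimit E) :=
    ⟨colimit.cocone _, ⟨colimit.isColimit _⟩⟩
  obtain ⟨hE⟩ := hE
  have hc' := Sheaf.isColimitSheafifyCocone E hE
  have h1 : ((Sheaf.sheafifyCocone E).ι.app i).hom.app (op U) y =
      ((Sheaf.sheafifyCocone E).ι.app i).hom.app (op U) y' := by
    have e := IsColimit.comp_coconePointUniqueUpToIso_hom hc hc' i
    rw [← e]
    change (hc.coconePointUniqueUpToIso hc').hom.hom.app (op U) ((c.ι.app i).hom.app (op U) y) =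
      (hc.coconePointUniqueUpToIso hc').hom.hom.app (op U) ((c.ι.app i).hom.app (op U) y')
    rw [h]
  rw [Sheaf.sheafifyCocone_ι_app_val] at h1
  have h2 : (toSheafify J E.pt).app (op U) ((E.ι.app i).app (op U) y) =
      (toSheafify J E.pt).app (op U) ((E.ι.app i).app (op U) y') := h1
  refine ⟨_, Presheaf.equalizerSieve_mem J (toSheafify J E.pt) _ _ h2, ?_⟩
  intro V g hg
  rw [Presheaf.equalizerSieve_apply] at hg
  have hEV := isColimitOfPreserves ((evaluation Cᵒᵖ (Type u)).obj (op V)) hE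
  have n1 := NatTrans.naturality_apply (E.ι.app i) g.op y
  have n2 := NatTrans.naturality_apply (E.ι.app i) g.op y'
  have h3 : (E.ι.app i).app (op V) ((D.obj i).obj.map g.op y) =
      (E.ι.app i).app (op V) ((D.obj i).obj.map g.op y') := by
    exact n1.trans (hg.trans n2.symm)
  exact (Types.FilteredColimit.isColimit_eq_iff' hEV _ _).mp h3

omit [IsFiltered I] in
/-- finitely many arrows out of `k` in a filtered category are dominated by a single one -/
lemma exists_dominating [IsFiltered I] (k : I) (s : Finset (Σ j : I, (k ⟶ j))) :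
    ∃ (j₀ : I) (ψ₀ : k ⟶ j₀), ∀ φ ∈ s, ∃ β : φ.1 ⟶ j₀, φ.2 ≫ β = ψ₀ := by
  classical
  induction s using Finset.induction_on with
  | empty => exact ⟨k, 𝟙 k, by simp⟩
  | insert φ s' _ ih =>
    obtain ⟨j₁, ψ₁, h₁⟩ := ih
    let m := IsFiltered.max j₁ φ.1
    let l : j₁ ⟶ m := IsFiltered.leftToMax _ _
    let r : φ.1 ⟶ m := IsFiltered.rightToMax _ _
    let q := IsFiltered.coeqHom (ψ₁ ≫ l) (φ.2 ≫ r)
    have hq : (ψ₁ ≫ l) ≫ q = (φ.2 ≫ r) ≫ q := IsFiltered.coeq_condition _ _
    refine ⟨_, (ψ₁ ≫ l) ≫ q, ?_⟩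
    intro φ' hφ'
    rw [Finset.mem_insert] at hφ'
    rcases hφ' with rfl | hφ'
    · exact ⟨r ≫ q, by rw [← Category.assoc, ← hq]⟩
    · obtain ⟨β, hβ⟩ := h₁ φ' hφ'
      exact ⟨β ≫ l ≫ q, by rw [← Category.assoc, hβ, Category.assoc]⟩

open Groth.Agent.Lib.Helper74.CanonicalTopos in
/-- the key step: for a quasi-compact `X`, two maps `X ⟶ D k` which agree in the colimit agree
further in the diagram -/
lemma exists_map_eq_of_isQC {X : ToposFin.Sh J} (hX : ToposFin.IsQC X) {c : Cocone D}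
    (hc : IsColimit c) (k : I) (f₁ f₂ : X ⟶ D.obj k) (h : f₁ ≫ c.ι.app k = f₂ ≫ c.ι.app k) :
    ∃ (j : I) (φ : k ⟶ j), f₁ ≫ D.map φ = f₂ ≫ D.map φ := by
  classical
  -- the equalizers of the pairs `(f₁ ≫ D φ, f₂ ≫ D φ)` cover `X`
  let Φ := Σ j : I, (k ⟶ j)
  let E : Φ → ToposFin.Sh J := fun φ => equalizer (f₁ ≫ D.map φ.2) (f₂ ≫ D.map φ.2)
  let e : ∀ φ : Φ, E φ ⟶ X := fun φ => equalizer.ι (f₁ ≫ D.map φ.2) (f₂ ≫ D.map φ.2)
  have he : JointlyEpi e := by
    apply jointlyEpi_of_locally_surjective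
    intro U x
    have hx : (c.ι.app k).hom.app (op U) (f₁.hom.app (op U) x) =
        (c.ι.app k).hom.app (op U) (f₂.hom.app (op U) x) :=
      congr_fun (congr_arg (fun φ => (φ.hom.app (op U) : _ → _)) h) x
    obtain ⟨S, hS, hSx⟩ := locally_eq_of_colimit_eq D hc k U _ _ hx
    refine ⟨S, hS, fun V g hg => ?_⟩
    obtain ⟨j, φ, hφ⟩ := hSx g hg
    -- the section `x|_V` as a morphism from the generator
    let z := X.obj.map g.op x
    let σ := (secEquiv J X V).symm z
    have hσ : σ ≫ (f₁ ≫ D.map φ) = σ ≫ (f₂ ≫ D.map φ) := by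
      apply (secEquiv J _ V).injective
      rw [secEquiv_comp, secEquiv_comp, Equiv.apply_symm_apply]
      have n1 := NatTrans.naturality_apply f₁.hom g.op x
      have n2 := NatTrans.naturality_apply f₂.hom g.op x
      change (D.map φ).hom.app (op V) (f₁.hom.app (op V) z) =
        (D.map φ).hom.app (op V) (f₂.hom.app (op V) z)
      rw [n1, n2]
      exact hφ
    refine ⟨⟨j, φ⟩, secEquiv J _ V (equalizer.lift σ hσ), ?_⟩
    rw [← secEquiv_comp, equalizer.lift_ι, Equiv.apply_symm_apply]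
  obtain ⟨s, hs⟩ := (isQC_iff X).mp hX Φ E e he
  obtain ⟨j₀, ψ₀, hψ⟩ := exists_dominating k s
  refine ⟨j₀, ψ₀, hs _ _ _ ?_⟩
  rintro ⟨φ, hφ⟩
  obtain ⟨β, hβ⟩ := hψ φ hφ
  change e φ ≫ f₁ ≫ D.map ψ₀ = e φ ≫ f₂ ≫ D.map ψ₀
  rw [← hβ, D.map_comp]
  have this : e φ ≫ f₁ ≫ D.map φ.2 = e φ ≫ f₂ ≫ D.map φ.2 :=
    equalizer.condition (f₁ ≫ D.map φ.2) (f₂ ≫ D.map φ.2)
  calc e φ ≫ f₁ ≫ D.map φ.2 ≫ D.map β = (e φ ≫ f₁ ≫ D.map φ.2) ≫ D.map β := by
        simp only [Category.assoc]
    _ = (e φ ≫ f₂ ≫ D.map φ.2) ≫ D.map β := by rw [this]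
    _ = e φ ≫ f₂ ≫ D.map φ.2 ≫ D.map β := by simp only [Category.assoc]

end filtered


lemma post_ι {X : ToposFin.Sh J} {I : Type u} [SmallCategory I] (D : I ⥤ ToposFin.Sh J)
    (j : I) (g : X ⟶ D.obj j) :
    colimit.post D (coyoneda.obj (op X)) (colimit.ι (D ⋙ coyoneda.obj (op X)) j g) =
      g ≫ colimit.ι D j := by
  have := ConcreteCategory.congr_hom (colimit.ι_post D (coyoneda.obj (op X)) j) g
  exact this

lemma post_injective_of_isQC {X : ToposFin.Sh J} (hX : ToposFin.IsQC X) (I : Type u)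
    [SmallCategory I] [IsFiltered I] (D : I ⥤ ToposFin.Sh J) :
    Function.Injective (colimit.post D (coyoneda.obj (op X))) := by
  intro a b hab
  obtain ⟨i, f, rfl⟩ := Types.jointly_surjective' a
  obtain ⟨i', f', rfl⟩ := Types.jointly_surjective' b
  rw [post_ι, post_ι] at hab
  rw [Types.FilteredColimit.colimit_eq_iff]
  let k := IsFiltered.max i i'
  let α : i ⟶ k := IsFiltered.leftToMax _ _
  let α' : i' ⟶ k := IsFiltered.rightToMax _ _
  have h : (f ≫ D.map α) ≫ colimit.ι D k = (f' ≫ D.map α') ≫ colimit.ι D k := by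
    rw [Category.assoc, Category.assoc, colimit.w, colimit.w]
    exact hab
  obtain ⟨j, φ, hφ⟩ := exists_map_eq_of_isQC D hX (colimit.isColimit D) k _ _ h
  refine ⟨j, α ≫ φ, α' ≫ φ, ?_⟩
  change f ≫ D.map (α ≫ φ) = f' ≫ D.map (α' ≫ φ)
  rw [D.map_comp, D.map_comp, ← Category.assoc, ← Category.assoc]
  exact hφ


section converse

variable {X : ToposFin.Sh J} {ι : Type u} (F : ι → ToposFin.Sh J) (π : ∀ i, F i ⟶ X)

/-- the map from the coproduct of a finite subfamily -/
noncomputable abbrev sig (s : Finset ι) : (∐ fun i : s => F i) ⟶ X := Sigma.desc (fun i : s => π i)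

lemma sig_comp_eq {s t : Finset ι} (hst : s ≤ t) :
    sig F π s ≫ pushout.inl (sig F π t) (sig F π t) =
      sig F π s ≫ pushout.inr (sig F π t) (sig F π t) := by
  apply Sigma.hom_ext
  intro i
  have h1 : π i = Sigma.ι (fun i : t => F i) ⟨i.1, hst i.2⟩ ≫ sig F π t := by
    rw [Sigma.ι_desc]
  rw [← Category.assoc, ← Category.assoc, Sigma.ι_desc, h1, Category.assoc, Category.assoc,
    pushout.condition]

/-- the filtered diagram of cokernel pairs -/
noncomputable def cokerPairs : Finset ι ⥤ ToposFin.Sh J where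
  obj s := pushout (sig F π s) (sig F π s)
  map {s t} φ := pushout.desc (pushout.inl _ _) (pushout.inr _ _) (sig_comp_eq F π (leOfHom φ))
  map_id s := by
    apply pushout.hom_ext
    · rw [pushout.inl_desc, Category.comp_id]
    · rw [pushout.inr_desc, Category.comp_id]
  map_comp φ ψ := by
    apply pushout.hom_ext
    · rw [pushout.inl_desc, ← Category.assoc, pushout.inl_desc, pushout.inl_desc]
    · rw [pushout.inr_desc, ← Category.assoc, pushout.inr_desc, pushout.inr_desc]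

end converse

lemma isQC_of_post_injective (X : ToposFin.Sh J)
    (h : ∀ (I : Type u) [SmallCategory I] [IsFiltered I] (D : I ⥤ ToposFin.Sh J),
      Function.Injective (colimit.post D (coyoneda.obj (op X)))) : ToposFin.IsQC X := by
  classical
  intro ι F π hπ
  have hje : JointlyEpi π := (epi_sigmaDesc_iff π).mp hπ
  have hinj := h (Finset ι) (cokerPairs F π)
  obtain ⟨a₀, ha₀⟩ : ∃ a₀ : X ⟶ (cokerPairs F π).obj ∅, a₀ = pushout.inl _ _ := ⟨_, rfl⟩
  obtain ⟨b₀, hb₀⟩ : ∃ b₀ : X ⟶ (cokerPairs F π).obj ∅, b₀ = pushout.inr _ _ := ⟨_, rfl⟩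
  have hmapa : ∀ (t : Finset ι) (φ : (∅ : Finset ι) ⟶ t),
      a₀ ≫ (cokerPairs F π).map φ = pushout.inl (sig F π t) (sig F π t) := by
    intro t φ
    rw [ha₀]
    exact pushout.inl_desc _ _ _
  have hmapb : ∀ (t : Finset ι) (φ : (∅ : Finset ι) ⟶ t),
      b₀ ≫ (cokerPairs F π).map φ = pushout.inr (sig F π t) (sig F π t) := by
    intro t φ
    rw [hb₀]
    exact pushout.inr_desc _ _ _
  have key : a₀ ≫ colimit.ι (cokerPairs F π) ∅ = b₀ ≫ colimit.ι (cokerPairs F π) ∅ := by
    apply hje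
    intro i
    have hs : (∅ : Finset ι) ≤ {i} := Finset.empty_subset _
    have h1 : π i = Sigma.ι (fun j : ({i} : Finset ι) => F j) ⟨i, Finset.mem_singleton_self i⟩ ≫
        sig F π {i} := by
      rw [Sigma.ι_desc]
    have h2 : π i ≫ pushout.inl (sig F π {i}) (sig F π {i}) =
        π i ≫ pushout.inr (sig F π {i}) (sig F π {i}) := by
      rw [h1, Category.assoc, Category.assoc, pushout.condition]
    have h3 : π i ≫ a₀ ≫ (cokerPairs F π).map (homOfLE hs) =
        π i ≫ b₀ ≫ (cokerPairs F π).map (homOfLE hs) := by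
      rw [hmapa, hmapb]
      exact h2
    rw [← colimit.w (cokerPairs F π) (homOfLE hs)]
    calc π i ≫ a₀ ≫ (cokerPairs F π).map (homOfLE hs) ≫ colimit.ι (cokerPairs F π) {i}
        = (π i ≫ a₀ ≫ (cokerPairs F π).map (homOfLE hs)) ≫ colimit.ι (cokerPairs F π) {i} := by
          simp only [Category.assoc]
      _ = (π i ≫ b₀ ≫ (cokerPairs F π).map (homOfLE hs)) ≫ colimit.ι (cokerPairs F π) {i} := by
          rw [h3]
      _ = π i ≫ b₀ ≫ (cokerPairs F π).map (homOfLE hs) ≫ colimit.ι (cokerPairs F π) {i} := by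
          simp only [Category.assoc]
  have hAB : colimit.ι (cokerPairs F π ⋙ coyoneda.obj (op X)) ∅ a₀ =
      colimit.ι (cokerPairs F π ⋙ coyoneda.obj (op X)) ∅ b₀ := by
    apply hinj
    rw [post_ι, post_ι]
    exact key
  rw [Types.FilteredColimit.colimit_eq_iff] at hAB
  obtain ⟨t, φ, φ', hφ⟩ := hAB
  have hφ' : a₀ ≫ (cokerPairs F π).map φ = b₀ ≫ (cokerPairs F π).map φ' := hφ
  rw [hmapa, hmapb] at hφ'
  refine ⟨t, ⟨fun {Z} a b hab => ?_⟩⟩
  have e1 : pushout.inl _ _ ≫ pushout.desc a b hab = a := pushout.inl_desc _ _ _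
  have e2 : pushout.inr _ _ ≫ pushout.desc a b hab = b := pushout.inr_desc _ _ _
  calc a = pushout.inl _ _ ≫ pushout.desc a b hab := e1.symm
    _ = pushout.inr _ _ ≫ pushout.desc a b hab := by rw [hφ']
    _ = b := e2


/-- a morphism from a coherent object to a filtered colimit factors through a stage, provided the
topos has enough quasi-compact objects -/
lemma exists_factor_of_isCoherent (hE : ToposFin.HasQCGenerators J) {X : ToposFin.Sh J}
    (hX : ToposFin.IsCoherent X) {I : Type u} [SmallCategory I] [IsFiltered I]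
    (D : I ⥤ ToposFin.Sh J) {c : Cocone D} (hc : IsColimit c) (g : X ⟶ c.pt) :
    ∃ (j : I) (t : X ⟶ D.obj j), t ≫ c.ι.app j = g := by
  classical
  have hgen := isGenerating_of_hasQCGenerators hE
  have hι : JointlyEpi (fun i => c.ι.app i) := fun Z a b hab => hc.hom_ext hab
  obtain ⟨κ, hκ, M, μ, idx, α, hM, hμ, hcomm⟩ :=
    exists_finite_cover_refining hgen hX.1 g (fun i => c.ι.app i) hι
  have := Fintype.ofFinite κ
  -- a common index
  obtain ⟨j₀, hj₀⟩ := IsFiltered.sup_objs_exists (Finset.univ.image idx)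
  have hγ : ∀ p : κ, Nonempty (idx p ⟶ j₀) :=
    fun p => hj₀ (Finset.mem_image_of_mem idx (Finset.mem_univ p))
  choose γ _ using fun p => (hγ p).elim (fun x => (⟨x, trivial⟩ : ∃ _ : idx p ⟶ j₀, True))
  -- the coproduct of the cover
  have hK : ToposFin.IsQC (∐ M) :=
    isQC_of_isColimit_cofan (Cofan.mk (∐ M) (Sigma.ι M)) (coproductIsCoproduct M) hM
  have hμepi : Epi (Sigma.desc μ) := (epi_sigmaDesc_iff μ).mpr hμ
  obtain ⟨h, hh⟩ : ∃ h : ∐ M ⟶ D.obj j₀, ∀ p, Sigma.ι M p ≫ h = α p ≫ D.map (γ p) :=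
    ⟨Sigma.desc (fun p => α p ≫ D.map (γ p)), fun p => Sigma.ι_desc _ _⟩
  have hhg : Sigma.desc μ ≫ g = h ≫ c.ι.app j₀ := by
    apply Sigma.hom_ext
    intro p
    rw [← Category.assoc, Sigma.ι_desc, ← Category.assoc, hh, hcomm, Category.assoc, c.w]
  -- the kernel pair is quasi-compact
  have hR : ToposFin.IsQC (pullback (Sigma.desc μ) (Sigma.desc μ)) := hX.2 _ _ _ _ hK hK
  have hr : (pullback.fst (Sigma.desc μ) (Sigma.desc μ) ≫ h) ≫ c.ι.app j₀ =
      (pullback.snd (Sigma.desc μ) (Sigma.desc μ) ≫ h) ≫ c.ι.app j₀ := by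
    rw [Category.assoc, Category.assoc, ← hhg, ← Category.assoc, ← Category.assoc,
      pullback.condition]
  obtain ⟨j, φ, hφ⟩ := exists_map_eq_of_isQC D hR hc j₀ _ _ hr
  -- descend along the effective epimorphism
  have heff : EffectiveEpi (Sigma.desc μ) :=
    (isRegularEpi_iff_effectiveEpi _).mp (IsRegularEpiCategory.regularEpiOfEpi _)
  have hcol := isColimitCoforkOfEffectiveEpi (Sigma.desc μ) _
    (pullbackIsPullback (Sigma.desc μ) (Sigma.desc μ))
  have hφ' : pullback.fst (Sigma.desc μ) (Sigma.desc μ) ≫ (h ≫ D.map φ) =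
      pullback.snd (Sigma.desc μ) (Sigma.desc μ) ≫ (h ≫ D.map φ) := by
    simpa only [Category.assoc] using hφ
  obtain ⟨t, ht⟩ : ∃ t : X ⟶ D.obj j, Sigma.desc μ ≫ t = h ≫ D.map φ :=
    ⟨Cofork.IsColimit.desc hcol (h ≫ D.map φ) hφ', Cofork.IsColimit.π_desc' hcol _ _⟩
  refine ⟨j, t, ?_⟩
  rw [← cancel_epi (Sigma.desc μ), ← Category.assoc, ht, Category.assoc, c.w, hhg]

/-- coherent objects are finitely presentable when there are enough quasi-compact objects -/
lemma post_bijective_of_isCoherent (hE : ToposFin.HasQCGenerators J) {X : ToposFin.Sh J}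
    (hX : ToposFin.IsCoherent X) (I : Type u) [SmallCategory I] [IsFiltered I]
    (D : I ⥤ ToposFin.Sh J) :
    Function.Bijective (colimit.post D (coyoneda.obj (op X))) := by
  refine ⟨post_injective_of_isQC hX.1 I D, fun g => ?_⟩
  obtain ⟨j, t, ht⟩ := exists_factor_of_isCoherent hE hX D (colimit.isColimit D) g
  exact ⟨colimit.ι (D ⋙ coyoneda.obj (op X)) j t, by rw [post_ι]; exact ht⟩

end Groth.Agent.Lib.Helper74.ToposFilt
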