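import Mathlib

/-!
# Filtered colimits of sheaves of sets on a site whose objects are quasi-compact

If every covering sieve of every object contains a finite family generating a covering sieve, then
a filtered colimit (computed in presheaves) of sheaves of sets is again a sheaf.
-/

set_option autoImplicit false
universe u

namespace Groth.Agent.Lib.Helper74

open CategoryTheory CategoryTheory.Limits Opposite

section

variable {C : Type u} [SmallCategory C] {I : Type u} [SmallCategory I]
  (F : I ⥤ Cᵒᵖ ⥤ Type u) (c : Cocone F) (hc : IsColimit c)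

include hc

/-- Every section of the colimit presheaf comes from some stage. -/
theorem colim_jointly_surjective (U : Cᵒᵖ) (x : c.pt.obj U) :
    ∃ (i : I) (y : (F.obj i).obj U), (c.ι.app i).app U y = x :=
  Types.jointly_surjective_of_isColimit
    (isColimitOfPreserves ((evaluation Cᵒᵖ (Type u)).obj U) hc) x

/-- Two sections at the same stage that agree in the colimit agree at a later stage. -/
theorem colim_eq_iff [IsFiltered I] (U : Cᵒᵖ) {i : I} (a b : (F.obj i).obj U) :
    (c.ι.app i).app U a = (c.ι.app i).app U b ↔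
      ∃ (j : I) (f : i ⟶ j), (F.map f).app U a = (F.map f).app U b :=
  Types.FilteredColimit.isColimit_eq_iff' (F := F ⋙ (evaluation Cᵒᵖ (Type u)).obj U)
    (isColimitOfPreserves ((evaluation Cᵒᵖ (Type u)).obj U) hc) a b

omit hc in
/-- Compatibility of the cocone with transition maps, elementwise. -/
theorem colim_ι_map (U : Cᵒᵖ) {i j : I} (f : i ⟶ j) (y : (F.obj i).obj U) :
    (c.ι.app j).app U ((F.map f).app U y) = (c.ι.app i).app U y := by
  have := congrArg (fun t => t.app U y) (c.w f)
  exact this

omit hc in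
/-- Naturality of the cocone legs, elementwise. -/
theorem colim_ι_naturality {U V : Cᵒᵖ} (φ : U ⟶ V) (i : I) (y : (F.obj i).obj U) :
    (c.ι.app i).app V ((F.obj i).map φ y) = c.pt.map φ ((c.ι.app i).app U y) :=
  NatTrans.naturality_apply (c.ι.app i) φ y

/-- Finitely many sections of the colimit presheaf come from a common stage. -/
theorem colim_common_lift [IsFiltered I] {κ : Type} [Finite κ] (U : κ → Cᵒᵖ)
    (x : ∀ k, c.pt.obj (U k)) :
    ∃ (i : I) (y : ∀ k, (F.obj i).obj (U k)), ∀ k, (c.ι.app i).app (U k) (y k) = x k := by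
  classical
  have := Fintype.ofFinite κ
  choose i₀ y₀ hy₀ using fun k => colim_jointly_surjective F c hc (U k) (x k)
  obtain ⟨S, hS⟩ := IsFiltered.sup_objs_exists (Finset.univ.image i₀)
  have hu : ∀ k, Nonempty (i₀ k ⟶ S) := fun k =>
    hS (Finset.mem_image_of_mem _ (Finset.mem_univ k))
  refine ⟨S, fun k => (F.map (hu k).some).app (U k) (y₀ k), fun k => ?_⟩
  rw [colim_ι_map F c, hy₀]

/-- Finitely many pairs of sections at a common stage which agree in the colimit agree at a common
later stage. -/
theorem colim_common_eq [IsFiltered I] {κ : Type} [Finite κ] (U : κ → Cᵒᵖ) {i : I}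
    (a b : ∀ k, (F.obj i).obj (U k))
    (h : ∀ k, (c.ι.app i).app (U k) (a k) = (c.ι.app i).app (U k) (b k)) :
    ∃ (j : I) (f : i ⟶ j), ∀ k, (F.map f).app (U k) (a k) = (F.map f).app (U k) (b k) := by
  classical
  have := Fintype.ofFinite κ
  suffices H : ∀ s : Finset κ, ∃ (j : I) (f : i ⟶ j),
      ∀ k ∈ s, (F.map f).app (U k) (a k) = (F.map f).app (U k) (b k) by
    obtain ⟨j, f, hf⟩ := H Finset.univ
    exact ⟨j, f, fun k => hf k (Finset.mem_univ k)⟩
  intro s
  induction s using Finset.induction_on with
  | empty => exact ⟨i, 𝟙 i, by simp⟩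
  | insert k₀ s hk₀ ih =>
    obtain ⟨j, f, hf⟩ := ih
    have h0 : (c.ι.app j).app (U k₀) ((F.map f).app (U k₀) (a k₀)) =
        (c.ι.app j).app (U k₀) ((F.map f).app (U k₀) (b k₀)) := by
      rw [colim_ι_map F c, colim_ι_map F c, h k₀]
    obtain ⟨j', g, hg⟩ := (colim_eq_iff F c hc (U k₀) _ _).mp h0
    refine ⟨j', f ≫ g, fun k hk => ?_⟩
    rw [F.map_comp]
    rcases Finset.mem_insert.mp hk with rfl | hk'
    · exact hg
    · exact congrArg ((F.map g).app (U k)) (hf k hk')

end

section sheaf

variable {C : Type u} [SmallCategory C] {I : Type u} [SmallCategory I] [IsFiltered I]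
  (F : I ⥤ Cᵒᵖ ⥤ Type u) (c : Cocone F) (hc : IsColimit c)
  (J : GrothendieckTopology C) (hF : ∀ i, Presieve.IsSheaf J (F.obj i))

include hc hF

/-- Step A: sections of the colimit presheaf agreeing on a finite family generating a covering
sieve are equal. -/
theorem colim_eq_of_forall_map_eq {X : C} {n : ℕ} (V : Fin n → C) (g : ∀ k, V k ⟶ X)
    (hT : Sieve.ofArrows V g ∈ J X) (t₁ t₂ : c.pt.obj (op X))
    (h : ∀ k, c.pt.map (g k).op t₁ = c.pt.map (g k).op t₂) : t₁ = t₂ := by
  classical
  -- lift both sections to a common stage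
  obtain ⟨i, y, hy⟩ := colim_common_lift F c hc (κ := Fin 2) (fun _ => op X) ![t₁, t₂]
  have hy₁ : (c.ι.app i).app (op X) (y 0) = t₁ := hy 0
  have hy₂ : (c.ι.app i).app (op X) (y 1) = t₂ := hy 1
  -- restrictions agree at a later stage
  obtain ⟨j, f, hf⟩ := colim_common_eq F c hc (fun k => op (V k))
    (fun k => (F.obj i).map (g k).op (y 0)) (fun k => (F.obj i).map (g k).op (y 1)) (by
      intro k
      rw [colim_ι_naturality, colim_ι_naturality, hy₁, hy₂, h k])
  -- use that `F.obj j` is separated
  have hsep : Presieve.IsSeparatedFor (F.obj j) (Presieve.ofArrows V g) :=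
    Presieve.isSeparatedFor_iff_generate.mpr (hF j _ hT).isSeparatedFor
  have hz : (F.map f).app (op X) (y 0) = (F.map f).app (op X) (y 1) := by
    apply hsep.ext
    rintro Y _ ⟨k⟩
    have h1 := NatTrans.naturality_apply (F.map f) (g k).op (y 0)
    have h2 := NatTrans.naturality_apply (F.map f) (g k).op (y 1)
    rw [← h1, ← h2]
    exact hf k
  rw [← hy₁, ← hy₂, ← colim_ι_map F c (op X) f (y 0), ← colim_ι_map F c (op X) f (y 1), hz]

variable (hJ : ∀ (X : C) (S : Sieve X), S ∈ J X → ∃ (n : ℕ) (V : Fin n → C) (g : ∀ k, V k ⟶ X),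
    (∀ k, S (g k)) ∧ Sieve.ofArrows V g ∈ J X)

include hJ

/-- Step A': the colimit presheaf is separated for every covering sieve. -/
theorem colim_isSeparatedFor {X : C} (S : Sieve X) (hS : S ∈ J X) :
    Presieve.IsSeparatedFor c.pt S.arrows := by
  obtain ⟨n, V, g, hgS, hT⟩ := hJ X S hS
  intro x t₁ t₂ h₁ h₂
  apply colim_eq_of_forall_map_eq F c hc J hF V g hT
  intro k
  rw [h₁ (g k) (hgS k), h₂ (g k) (hgS k)]

omit hJ in
/-- Step C1: the colimit presheaf is a sheaf for a finite family generating a covering sieve. -/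
theorem colim_isSheafFor_ofArrows [HasPullbacks C] {X : C} {n : ℕ} (V : Fin n → C)
    (g : ∀ k, V k ⟶ X) (hT : Sieve.ofArrows V g ∈ J X) :
    Presieve.IsSheafFor c.pt (Presieve.ofArrows V g) := by
  classical
  rw [Presieve.isSheafFor_arrows_iff_pullbacks]
  intro x hx
  -- lift the family to a common stage
  obtain ⟨i, y, hy⟩ := colim_common_lift F c hc (fun k => op (V k)) x
  -- the pullback compatibilities hold at a later stage
  obtain ⟨j, f, hf⟩ := colim_common_eq F c hc (κ := Fin n × Fin n)
    (fun kl => op (pullback (g kl.1) (g kl.2)))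
    (fun kl => (F.obj i).map (pullback.fst (g kl.1) (g kl.2)).op (y kl.1))
    (fun kl => (F.obj i).map (pullback.snd (g kl.1) (g kl.2)).op (y kl.2)) (by
      rintro ⟨k, l⟩
      dsimp only
      rw [colim_ι_naturality, colim_ι_naturality, hy, hy]
      exact hx k l)
  -- glue at stage `j`
  have hsh : Presieve.IsSheafFor (F.obj j) (Presieve.ofArrows V g) :=
    (Presieve.isSheafFor_iff_generate _).mpr (hF j _ hT)
  rw [Presieve.isSheafFor_arrows_iff_pullbacks] at hsh
  obtain ⟨t', ht', -⟩ := hsh (fun k => (F.map f).app (op (V k)) (y k)) (by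
    intro k l
    have h1 := NatTrans.naturality_apply (F.map f) (pullback.fst (g k) (g l)).op (y k)
    have h2 := NatTrans.naturality_apply (F.map f) (pullback.snd (g k) (g l)).op (y l)
    rw [← h1, ← h2]
    exact hf (k, l))
  refine ⟨(c.ι.app j).app (op X) t', ?_, ?_⟩
  · intro k
    rw [← colim_ι_naturality, ht' k, colim_ι_map, hy]
  · intro t ht
    apply colim_eq_of_forall_map_eq F c hc J hF V g hT
    intro k
    rw [ht k, ← colim_ι_naturality, ht' k, colim_ι_map, hy]

/-- A filtered colimit (computed in presheaves) of sheaves of sets is a sheaf, provided every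
covering sieve contains a finite family generating a covering sieve. -/
theorem colim_isSheaf [HasPullbacks C] : Presieve.IsSheaf J c.pt := by
  intro X S hS
  obtain ⟨n, V, g, hgS, hT⟩ := hJ X S hS
  have hle : (Sieve.ofArrows V g : Presieve X) ≤ S.arrows := by
    rintro Y f ⟨Z, h, _, ⟨k⟩, rfl⟩
    exact S.downward_closed (hgS k) h
  refine Presieve.isSheafFor_subsieve_aux c.pt hle ?_ ?_
  · exact (Presieve.isSheafFor_iff_generate _).mp
      (colim_isSheafFor_ofArrows F c hc J hF V g hT)
  · intro Y f _
    exact colim_isSeparatedFor F c hc J hF hJ _ (J.pullback_stable f hT)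

end sheaf

end Groth.Agent.Lib.Helper74
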