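import Groth.Prelude.Def_SGA4a
import Groth.Agent.Lib.Helper28.ShVanKampen
import Mathlib

set_option autoImplicit false
universe u
open CategoryTheory CategoryTheory.Limits Opposite
open SGA4

namespace Groth.Agent.Lib.Helper74.GiraudCoprod

variable {C : Type u} [SmallCategory C] (J : GrothendieckTopology C)

set_option synthInstance.maxHeartbeats 20000 in
/-- Small coproducts in a sheaf topos are disjoint and universal (SGA4 IV 1.2 (b)). -/
theorem hasDisjointUniversalCoproducts :
    SGA4.HasDisjointUniversalCoproducts.{u + 1, u} (Sheaf J (Type u)) := by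
  intro ι X
  have h2 : HasColimitsOfShape (Discrete ι) (Sheaf J (Type u)) :=
    CategoryTheory.Sheaf.instHasColimitsOfShape
  have h3 : HasCoproduct X := inferInstance
  have h4 : HasInitial (Sheaf J (Type u)) := CategoryTheory.Sheaf.instHasColimitsOfShape
  let c : Cofan X := Cofan.mk (∐ X) (Sigma.ι X)
  have hc : IsColimit c := coproductIsCoproduct X
  have hvk : IsVanKampenColimit c :=
    Groth.Agent.Lib.Helper28.isVanKampenColimit_discrete_sheaf J c hc
  refine ⟨c, hc, ?_, hvk.isUniversal⟩
  have hmono : ∀ i, Mono (c.inj i) := fun i => mono_of_cofan_isVanKampen hvk ⟨i⟩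
  have hpb : ∀ {i j : ι} (hij : i ≠ j),
      IsPullback (initial.to (X i)) (initial.to (X j)) (c.inj i) (c.inj j) := fun {i j} hij =>
    isPullback_initial_to_of_cofan_isVanKampen hvk ⟨i⟩ ⟨j⟩ (fun h => hij (Discrete.mk.inj h))
  exact CoproductDisjoint.of_cofan hc
    (fun {i j} hij => PullbackCone.mk (initial.to (X i)) (initial.to (X j)) (hpb hij).w)
    (fun {i j} hij => (hpb hij).isLimit)
    (fun {i j} hij => initialIsInitial)

end Groth.Agent.Lib.Helper74.GiraudCoprod
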