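import Mathlib

/-!
# Artin gluing along an open subterminal object

`E` a category, `U` a subterminal object with `j^* = Over.star U` having a right adjoint `j_*`,
`ι : F ⥤ E` a fully faithful functor with a left adjoint `L` preserving pullbacks, such that
`j^* ι Z` is terminal for all `Z`, and `j^*`, `L` are jointly conservative. Then
`E ≌ Comma (𝟭 F) (j_* ⋙ L)`.
-/

set_option autoImplicit false
set_option linter.unusedSectionVars false
universe v₁ u₁ v₂ u₂
open CategoryTheory CategoryTheory.Limits

namespace Groth.Agent.Lib.Helper74.Gluing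

section comma

variable {A : Type*} [Category A] {B : Type*} [Category B] {T : Type*} [Category T]
  {L₁ : A ⥤ T} {R₁ : B ⥤ T}

lemma isIso_comma_of_isIso {X Y : Comma L₁ R₁} (f : X ⟶ Y) [IsIso f.left] [IsIso f.right] :
    IsIso f := by
  have hw : L₁.map (inv f.left) ≫ X.hom = Y.hom ≫ R₁.map (inv f.right) := by
    rw [← cancel_epi (L₁.map f.left), ← L₁.map_comp_assoc, IsIso.hom_inv_id,
      L₁.map_id, Category.id_comp, ← Category.assoc, f.w, Category.assoc,
      ← R₁.map_comp, IsIso.hom_inv_id, R₁.map_id, Category.comp_id]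
  refine ⟨⟨{ left := inv f.left, right := inv f.right, w := hw }, ?_, ?_⟩⟩
  · ext <;> simp
  · ext <;> simp

end comma

variable {E : Type u₁} [Category.{v₁} E] [HasBinaryProducts E] [HasPullbacks E]
  (U : E) [(Over.star U).IsLeftAdjoint]
  {F : Type u₂} [Category.{v₂} F] (ι : F ⥤ E) [ι.Full] [ι.Faithful] (L : E ⥤ F) (adj : L ⊣ ι)

/-- the adjunction `j^* ⊣ j_*`. -/
noncomputable abbrev adjJ : Over.star U ⊣ (Over.star U).rightAdjoint :=
  Adjunction.ofIsLeftAdjoint (Over.star U)

/-- the gluing functor. -/
noncomputable def Θ : E ⥤ Comma (𝟭 F) ((Over.star U).rightAdjoint ⋙ L) where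
  obj X := { left := L.obj X, right := (Over.star U).obj X, hom := L.map ((adjJ U).unit.app X) }
  map {X Y} f :=
    { left := L.map f
      right := (Over.star U).map f
      w := by
        change L.map f ≫ L.map ((adjJ U).unit.app Y) =
          L.map ((adjJ U).unit.app X) ≫ L.map ((Over.star U).rightAdjoint.map ((Over.star U).map f))
        rw [← L.map_comp, ← L.map_comp]
        congr 1
        exact (adjJ U).unit.naturality f }
  map_id X := by
    apply CommaMorphism.ext
    · exact L.map_id X
    · exact (Over.star U).map_id X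
  map_comp f g := by
    apply CommaMorphism.ext
    · exact L.map_comp f g
    · exact (Over.star U).map_comp f g

variable {U ι L}

/-- the object part of the right adjoint. -/
noncomputable abbrev Ξobj (T : Comma (𝟭 F) ((Over.star U).rightAdjoint ⋙ L)) : E :=
  pullback (ι.map T.hom) (adj.unit.app ((Over.star U).rightAdjoint.obj T.right))

lemma compat_aux {X : E} {T : Comma (𝟭 F) ((Over.star U).rightAdjoint ⋙ L)}
    (a : L.obj X ⟶ T.left) (b : (Over.star U).obj X ⟶ T.right) :
    (a ≫ T.hom = L.map ((adjJ U).unit.app X) ≫ L.map ((Over.star U).rightAdjoint.map b)) ↔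
    (adj.homEquiv X T.left a ≫ ι.map T.hom =
      (adjJ U).homEquiv X T.right b ≫ adj.unit.app ((Over.star U).rightAdjoint.obj T.right)) := by
  have h1 : adj.homEquiv X T.left a ≫ ι.map T.hom = adj.homEquiv X _ (a ≫ T.hom) :=
    (adj.homEquiv_naturality_right a T.hom).symm
  have h2 : (adjJ U).homEquiv X T.right b ≫
      adj.unit.app ((Over.star U).rightAdjoint.obj T.right) =
      adj.homEquiv X _ (L.map ((adjJ U).unit.app X) ≫
        L.map ((Over.star U).rightAdjoint.map b)) := by
    rw [(adjJ U).homEquiv_unit, adj.homEquiv_unit, ← L.map_comp]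
    exact adj.unit.naturality _
  rw [h1, h2]
  exact (adj.homEquiv X _).injective.eq_iff.symm

/-- the hom-equivalence. -/
noncomputable def homEquivΘ (X : E) (T : Comma (𝟭 F) ((Over.star U).rightAdjoint ⋙ L)) :
    ((Θ U L).obj X ⟶ T) ≃ (X ⟶ Ξobj adj T) where
  toFun g := pullback.lift (adj.homEquiv X T.left g.left) ((adjJ U).homEquiv X T.right g.right)
    ((compat_aux adj g.left g.right).mp g.w)
  invFun h :=
    { left := (adj.homEquiv X T.left).symm (h ≫ pullback.fst _ _)
      right := ((adjJ U).homEquiv X T.right).symm (h ≫ pullback.snd _ _)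
      w := (compat_aux adj ((adj.homEquiv X T.left).symm (h ≫ pullback.fst _ _))
          (((adjJ U).homEquiv X T.right).symm (h ≫ pullback.snd _ _))).mpr (by
        rw [Equiv.apply_symm_apply, Equiv.apply_symm_apply, Category.assoc, Category.assoc,
          pullback.condition]) }
  left_inv g := by
    apply CommaMorphism.ext
    · change (adj.homEquiv X T.left).symm (pullback.lift _ _ _ ≫ pullback.fst _ _) = g.left
      rw [pullback.lift_fst, Equiv.symm_apply_apply]
    · change ((adjJ U).homEquiv X T.right).symm (pullback.lift _ _ _ ≫ pullback.snd _ _) = g.right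
      rw [pullback.lift_snd, Equiv.symm_apply_apply]
  right_inv h := by
    apply pullback.hom_ext
    · rw [pullback.lift_fst]
      exact Equiv.apply_symm_apply _ _
    · rw [pullback.lift_snd]
      exact Equiv.apply_symm_apply _ _


lemma homEquivΘ_naturality {X' X : E} (T : Comma (𝟭 F) ((Over.star U).rightAdjoint ⋙ L))
    (f : X' ⟶ X) (g : (Θ U L).obj X ⟶ T) :
    homEquivΘ adj X' T ((Θ U L).map f ≫ g) = f ≫ homEquivΘ adj X T g := by
  apply pullback.hom_ext
  · rw [Category.assoc]
    change pullback.lift _ _ _ ≫ pullback.fst _ _ = f ≫ pullback.lift _ _ _ ≫ pullback.fst _ _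
    rw [pullback.lift_fst, pullback.lift_fst]
    exact adj.homEquiv_naturality_left f g.left
  · rw [Category.assoc]
    change pullback.lift _ _ _ ≫ pullback.snd _ _ = f ≫ pullback.lift _ _ _ ≫ pullback.snd _ _
    rw [pullback.lift_snd, pullback.lift_snd]
    exact (adjJ U).homEquiv_naturality_left f g.right

/-- the right adjoint of the gluing functor. -/
noncomputable def Ξ : Comma (𝟭 F) ((Over.star U).rightAdjoint ⋙ L) ⥤ E :=
  Adjunction.rightAdjointOfEquiv (F := Θ U L) (G_obj := Ξobj adj) (homEquivΘ adj)
    (fun _ _ T f g => homEquivΘ_naturality adj T f g)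

/-- the gluing adjunction. -/
noncomputable def adjΘ : Θ U L ⊣ Ξ adj :=
  Adjunction.adjunctionOfEquivRight (F := Θ U L) (G_obj := Ξobj adj) (homEquivΘ adj)
    (fun _ _ T f g => homEquivΘ_naturality adj T f g)

lemma adjΘ_counit_app (T : Comma (𝟭 F) ((Over.star U).rightAdjoint ⋙ L)) :
    (adjΘ adj).counit.app T = (homEquivΘ adj (Ξobj adj T) T).symm (𝟙 _) := by
  rfl

lemma adjΘ_counit_app_left (T : Comma (𝟭 F) ((Over.star U).rightAdjoint ⋙ L)) :
    ((adjΘ adj).counit.app T).left =
      L.map (pullback.fst (ι.map T.hom) (adj.unit.app ((Over.star U).rightAdjoint.obj T.right))) ≫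
        adj.counit.app T.left := by
  rw [adjΘ_counit_app]
  change (adj.homEquiv _ T.left).symm (𝟙 _ ≫ pullback.fst _ _) = _
  rw [Category.id_comp, adj.homEquiv_counit]

lemma adjΘ_counit_app_right (T : Comma (𝟭 F) ((Over.star U).rightAdjoint ⋙ L)) :
    ((adjΘ adj).counit.app T).right =
      (Over.star U).map
        (pullback.snd (ι.map T.hom) (adj.unit.app ((Over.star U).rightAdjoint.obj T.right))) ≫
        (adjJ U).counit.app T.right := by
  rw [adjΘ_counit_app]
  change ((adjJ U).homEquiv _ T.right).symm (𝟙 _ ≫ pullback.snd _ _) = _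
  rw [Category.id_comp, (adjJ U).homEquiv_counit]


section isos

variable (hsub : ∀ {T : E} (a b : T ⟶ U), a = b)
  (hterm : ∀ Z : F, IsIso (prod.fst : U ⨯ ι.obj Z ⟶ U))
  (hcons : ∀ {X Y : E} (m : X ⟶ Y), IsIso ((Over.star U).map m) → IsIso (L.map m) → IsIso m)

omit [HasPullbacks E] [(Over.star U).IsLeftAdjoint] in
lemma star_obj_hom (Z : E) : ((Over.star U).obj Z).hom = (prod.fst : U ⨯ Z ⟶ U) := by
  simp only [Over.star, coalgebraToOver, prodComonad, Functor.comp_obj,
    Comonad.cofree_obj_a, Over.mk_hom]
  exact prod.lift_fst _ _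

omit [HasPullbacks E] [(Over.star U).IsLeftAdjoint] in
lemma isIso_star_obj_hom (Z : E) [IsIso (prod.fst : U ⨯ Z ⟶ U)] :
    IsIso ((Over.star U).obj Z).hom := by
  rw [star_obj_hom]
  exact ‹IsIso (prod.fst : U ⨯ Z ⟶ U)›

omit [HasPullbacks E] [(Over.star U).IsLeftAdjoint] in
include hsub in
lemma isIso_prod_lift {Y : E} (a : Y ⟶ U) : IsIso (prod.lift a (𝟙 Y)) := by
  refine ⟨prod.snd, prod.lift_snd _ _, ?_⟩
  apply Limits.prod.hom_ext
  · exact hsub _ _
  · rw [Category.assoc, prod.lift_snd, Category.comp_id, Category.id_comp]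

omit [HasPullbacks E] [(Over.star U).IsLeftAdjoint] in
include hsub in
lemma isIso_forgetAdjStar_unit : IsIso (Over.forgetAdjStar U).unit := by
  have : ∀ Y : Over U, IsIso ((Over.forgetAdjStar U).unit.app Y) := by
    intro Y
    have h : IsIso ((Over.forget U).map ((Over.forgetAdjStar U).unit.app Y)) := by
      change IsIso ((Over.forgetAdjStar U).unit.app Y).left
      rw [Over.forgetAdjStar_unit_app_left]
      exact isIso_prod_lift hsub Y.hom
    exact isIso_of_reflects_iso _ (Over.forget U)
  exact NatIso.isIso_of_isIso_app _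

include hsub in
lemma isIso_adjJ_counit : IsIso (adjJ U).counit := by
  let t : Adjunction.Triple (Over.forget U) (Over.star U) (Over.star U).rightAdjoint :=
    ⟨Over.forgetAdjStar U, adjJ U⟩
  have := isIso_forgetAdjStar_unit hsub
  exact t.isIso_unit_iff_isIso_counit.mp this

omit [HasPullbacks E] [(Over.star U).IsLeftAdjoint] in
lemma isIso_over_of_isIso_hom {A B : Over U} (g : A ⟶ B) [IsIso A.hom] [IsIso B.hom] : IsIso g := by
  have h : IsIso ((Over.forget U).map g) := by
    change IsIso g.left
    have : g.left = A.hom ≫ inv B.hom := by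
      rw [IsIso.eq_comp_inv]
      exact Over.w g
    rw [this]
    infer_instance
  exact isIso_of_reflects_iso _ (Over.forget U)

include hterm in
lemma isIso_star_map_ι {Z Z' : F} (φ : Z ⟶ Z') : IsIso ((Over.star U).map (ι.map φ)) := by
  have := hterm Z
  have := hterm Z'
  have h1 : IsIso ((Over.star U).obj (ι.obj Z)).hom := isIso_star_obj_hom _
  have h2 : IsIso ((Over.star U).obj (ι.obj Z')).hom := isIso_star_obj_hom _
  exact isIso_over_of_isIso_hom _

lemma isIso_L_map_unit (Z : E) : IsIso (L.map (adj.unit.app Z)) := by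
  have h := adj.left_triangle_components Z
  have : IsIso (L.map (adj.unit.app Z) ≫ adj.counit.app (L.obj Z)) := by
    rw [h]; exact IsIso.id _
  exact IsIso.of_isIso_comp_right (L.map (adj.unit.app Z)) (adj.counit.app (L.obj Z))

variable [PreservesLimitsOfShape WalkingCospan L]

include hsub hterm in
lemma isIso_adjΘ_counit_app (T : Comma (𝟭 F) ((Over.star U).rightAdjoint ⋙ L)) :
    IsIso ((adjΘ adj).counit.app T) := by
  have hpb : IsPullback
      (pullback.fst (ι.map T.hom) (adj.unit.app ((Over.star U).rightAdjoint.obj T.right)))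
      (pullback.snd (ι.map T.hom) (adj.unit.app ((Over.star U).rightAdjoint.obj T.right)))
      (ι.map T.hom) (adj.unit.app ((Over.star U).rightAdjoint.obj T.right)) :=
    IsPullback.of_hasPullback _ _
  have hl : IsIso ((adjΘ adj).counit.app T).left := by
    rw [adjΘ_counit_app_left]
    have hpbL := hpb.map L
    have := isIso_L_map_unit adj ((Over.star U).rightAdjoint.obj T.right)
    have : IsIso (L.map (pullback.fst (ι.map T.hom)
        (adj.unit.app ((Over.star U).rightAdjoint.obj T.right)))) := hpbL.isIso_fst_of_isIso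
    have h2 : IsIso (adj.counit.app T.left) := inferInstance
    exact @IsIso.comp_isIso _ _ _ _ _ _ _ this h2
  have hr : IsIso ((adjΘ adj).counit.app T).right := by
    rw [adjΘ_counit_app_right]
    have hpbJ := hpb.map (Over.star U)
    have := isIso_star_map_ι (ι := ι) hterm T.hom
    have : IsIso ((Over.star U).map (pullback.snd (ι.map T.hom)
        (adj.unit.app ((Over.star U).rightAdjoint.obj T.right)))) := hpbJ.isIso_snd_of_isIso
    have := isIso_adjJ_counit (U := U) hsub
    have h2 : IsIso ((adjJ U).counit.app T.right) := inferInstance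
    exact @IsIso.comp_isIso _ _ _ _ _ _ _ ‹IsIso ((Over.star U).map (pullback.snd (ι.map T.hom)
        (adj.unit.app ((Over.star U).rightAdjoint.obj T.right))))› h2
  exact isIso_comma_of_isIso _

include hsub hterm hcons in
lemma isIso_adjΘ_unit_app (X : E) : IsIso ((adjΘ (U := U) adj).unit.app X) := by
  have h := (adjΘ (U := U) adj).left_triangle_components X
  have hc := isIso_adjΘ_counit_app adj hsub hterm ((Θ U L).obj X)
  have : IsIso ((Θ U L).map ((adjΘ (U := U) adj).unit.app X) ≫
      (adjΘ (U := U) adj).counit.app ((Θ U L).obj X)) := by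
    rw [h]; exact IsIso.id _
  have hΘ : IsIso ((Θ U L).map ((adjΘ (U := U) adj).unit.app X)) :=
    IsIso.of_isIso_comp_right _ ((adjΘ (U := U) adj).counit.app ((Θ U L).obj X))
  have hl : IsIso ((Θ U L).map ((adjΘ (U := U) adj).unit.app X)).left := inferInstance
  have hr : IsIso ((Θ U L).map ((adjΘ (U := U) adj).unit.app X)).right := inferInstance
  exact hcons _ hr hl

include adj hsub hterm hcons in
/-- Artin gluing. -/
theorem nonempty_equivalence :
    Nonempty (E ≌ Comma (𝟭 F) ((Over.star U).rightAdjoint ⋙ L)) := by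
  have h1 : ∀ X, IsIso ((adjΘ (U := U) adj).unit.app X) :=
    isIso_adjΘ_unit_app adj hsub hterm hcons
  have h2 : ∀ T, IsIso ((adjΘ (U := U) adj).counit.app T) :=
    isIso_adjΘ_counit_app adj hsub hterm
  exact ⟨(adjΘ (U := U) adj).toEquivalence⟩

end isos

end Groth.Agent.Lib.Helper74.Gluing
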