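import Mathlib.RingTheory.Henselian

/-!
Hensel's lemma for an `I`-adically complete ring, without the monicity hypothesis
(the Mathlib proof of `IsAdicComplete.henselianRing` never uses monicity), plus uniqueness.
-/

set_option autoImplicit false

namespace Groth.Agent.Lib.Helper74

open Polynomial
open scoped Ring

theorem hensel_exists_of_isAdicComplete {R : Type*} [CommRing R] (I : Ideal R)
    [IsAdicComplete I R] (f : R[X]) (a₀ : R) (h₁ : f.eval a₀ ∈ I)
    (h₂ : IsUnit (Ideal.Quotient.mk I (f.derivative.eval a₀))) :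
    ∃ a : R, f.IsRoot a ∧ a - a₀ ∈ I := by
  classical
    let f' := derivative f
    let c : ℕ → R := fun n => Nat.recOn n a₀ fun _ b => b - f.eval b * (f'.eval b)⁻¹ʳ
    have hc : ∀ n, c (n + 1) = c n - f.eval (c n) * (f'.eval (c n))⁻¹ʳ := by
      intro n
      simp only [c]
    have hc_mod : ∀ n, c n ≡ a₀ [SMOD I] := by
      intro n
      induction n with
      | zero => rfl
      | succ n ih => ?_
      rw [hc, sub_eq_add_neg, ← add_zero a₀]
      refine ih.add ?_
      rw [SModEq.zero, Ideal.neg_mem_iff]
      refine I.mul_mem_right _ ?_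
      rw [← SModEq.zero] at h₁ ⊢
      exact (ih.eval f).trans h₁
    have hf'c : ∀ n, IsUnit (f'.eval (c n)) := by
      intro n
      have := isLocalHom_of_le_jacobson_bot I (IsAdicComplete.le_jacobson_bot I)
      apply IsUnit.of_map (Ideal.Quotient.mk I)
      convert! h₂ using 1
      exact SModEq.def.mp ((hc_mod n).eval _)
    have hfcI : ∀ n, f.eval (c n) ∈ I ^ (n + 1) := by
      intro n
      induction n with
      | zero => simpa only [Nat.rec_zero, zero_add, pow_one] using! h₁
      | succ n ih => ?_
      rw [← taylor_eval_sub (c n), hc, sub_eq_add_neg, sub_eq_add_neg,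
        add_neg_cancel_comm]
      rw [eval_eq_sum, sum_over_range' _ _ _ (lt_add_of_pos_right _ zero_lt_two), ←
        Finset.sum_range_add_sum_Ico _ (Nat.le_add_left _ _)]
      swap
      · intro i
        rw [zero_mul]
      refine Ideal.add_mem _ ?_ ?_
      · rw [← one_add_one_eq_two, Finset.sum_range_succ, Finset.range_one, Finset.sum_singleton,
          taylor_coeff_zero, taylor_coeff_one, pow_zero, pow_one, mul_one, mul_neg,
          mul_left_comm, Ring.mul_inverse_cancel _ (hf'c n), mul_one, add_neg_cancel]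
        exact Ideal.zero_mem _
      · refine Submodule.sum_mem _ ?_
        simp only [Finset.mem_Ico]
        rintro i ⟨h2i, _⟩
        have aux : n + 2 ≤ i * (n + 1) := by trans 2 * (n + 1) <;> nlinarith only [h2i]
        refine Ideal.mul_mem_left _ _ (Ideal.pow_le_pow_right aux ?_)
        rw [pow_mul']
        exact Ideal.pow_mem_pow ((Ideal.neg_mem_iff _).2 <| Ideal.mul_mem_right _ _ ih) _
    have aux : ∀ m n, m ≤ n → c m ≡ c n [SMOD (I ^ m • ⊤ : Ideal R)] := by
      intro m n hmn
      rw [← Ideal.one_eq_top, Ideal.smul_eq_mul, mul_one]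
      obtain ⟨k, rfl⟩ := Nat.exists_eq_add_of_le hmn
      clear hmn
      induction k with
      | zero => rw [add_zero]
      | succ k ih => ?_
      rw [← add_assoc, hc, ← add_zero (c m), sub_eq_add_neg]
      refine ih.add ?_
      symm
      rw [SModEq.zero, Ideal.neg_mem_iff]
      refine Ideal.mul_mem_right _ _ (Ideal.pow_le_pow_right ?_ (hfcI _))
      rw [add_assoc]
      exact le_self_add
    obtain ⟨a, ha⟩ := IsPrecomplete.prec' c (aux _ _)
    refine ⟨a, ?_, ?_⟩
    · show f.IsRoot a
      suffices ∀ n, f.eval a ≡ 0 [SMOD (I ^ n • ⊤ : Ideal R)] by exact IsHausdorff.haus' _ this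
      intro n
      specialize ha n
      rw [← Ideal.one_eq_top, Ideal.smul_eq_mul, mul_one] at ha ⊢
      refine (ha.symm.eval f).trans ?_
      rw [SModEq.zero]
      exact Ideal.pow_le_pow_right le_self_add (hfcI _)
    · show a - a₀ ∈ I
      specialize ha (0 + 1)
      rw [hc, pow_one, ← Ideal.one_eq_top, Ideal.smul_eq_mul, mul_one, sub_eq_add_neg] at ha
      rw [← SModEq.sub_mem, ← add_zero a₀]
      refine ha.symm.trans (SModEq.rfl.add ?_)
      rw [SModEq.zero, Ideal.neg_mem_iff]
      exact Ideal.mul_mem_right _ _ h₁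

theorem hensel_unique_of_le_jacobson {R : Type*} [CommRing R] (I : Ideal R)
    (hI : I ≤ Ideal.jacobson ⊥) (f : R[X]) (a₀ a b : R)
    (h₂ : IsUnit (Ideal.Quotient.mk I (f.derivative.eval a₀)))
    (ha : f.IsRoot a) (haI : a - a₀ ∈ I) (hb : f.IsRoot b) (hbI : b - a₀ ∈ I) : a = b := by
  obtain ⟨c, hc⟩ := exists_mul_sq_add_linear_part_eq_eval_add f a (b - a)
  have hba : b - a ∈ I := by
    have : b - a = (b - a₀) - (a - a₀) := by ring
    rw [this]; exact I.sub_mem hbI haI
  have hb0 : f.eval b = 0 := hb
  have ha0 : f.eval a = 0 := ha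
  rw [add_sub_cancel, hb0] at hc
  have hu : IsUnit (c * (b - a) + f.derivative.eval a) := by
    have := isLocalHom_of_le_jacobson_bot I hI
    apply IsUnit.of_map (Ideal.Quotient.mk I)
    have e1 : Ideal.Quotient.mk I (c * (b - a) + f.derivative.eval a) =
        Ideal.Quotient.mk I (f.derivative.eval a₀) := by
      rw [Ideal.Quotient.eq]
      have h3 : f.derivative.eval a - f.derivative.eval a₀ ∈ I := by
        have : a ≡ a₀ [SMOD I] := by rwa [← SModEq.sub_mem] at haI
        have := this.eval f.derivative
        rwa [SModEq.sub_mem] at this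
      have : c * (b - a) + f.derivative.eval a - f.derivative.eval a₀ =
        c * (b - a) + (f.derivative.eval a - f.derivative.eval a₀) := by ring
      rw [this]
      exact I.add_mem (I.mul_mem_left c hba) h3
    rw [e1]; exact h₂
  have hz : (c * (b - a) + f.derivative.eval a) * (b - a) = 0 := by
    have : (c * (b - a) + f.derivative.eval a) * (b - a) =
      c * (b - a) ^ 2 + f.derivative.eval a * (b - a) + f.eval a := by rw [ha0]; ring
    rw [this]; exact hc
  have := (hu.mul_right_eq_zero).mp hz
  exact (sub_eq_zero.mp this).symm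

end Groth.Agent.Lib.Helper74
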