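import Mathlib.CategoryTheory.Abelian.Refinements
import Mathlib.CategoryTheory.Subobject.Limits

/-!
Subobject inequalities against image subobjects, "up to refinements", in an abelian category.
-/

set_option autoImplicit false
universe v u

namespace Groth.Agent.Lib.Helper74

open CategoryTheory CategoryTheory.Limits

variable {V : Type u} [Category.{v} V] [Abelian V]

/-- If the arrow of a subobject `Y` of `B` factors through `f : X ⟶ B` after an epimorphic
refinement, then `Y ≤ imageSubobject f`. -/
theorem le_imageSubobject_of_refinement {B X : V} (Y : Subobject B) (f : X ⟶ B)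
    {A' : V} (p : A' ⟶ (Y : V)) [Epi p] (y : A' ⟶ X) (h : p ≫ Y.arrow = y ≫ f) :
    Y ≤ imageSubobject f := by
  have hk : kernel.ι p ≫ (y ≫ factorThruImageSubobject f) = 0 := by
    rw [← cancel_mono (imageSubobject f).arrow, Category.assoc, Category.assoc,
      imageSubobject_arrow_comp, ← h, kernel.condition_assoc, zero_comp, zero_comp]
  refine Subobject.le_of_comm (Abelian.epiDesc p (y ≫ factorThruImageSubobject f) hk) ?_
  rw [← cancel_epi p, Abelian.comp_epiDesc_assoc, Category.assoc, imageSubobject_arrow_comp, h]

/-- If `Y ≤ imageSubobject f`, then any generalized element of `Y` lifts through `f` after an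
epimorphic refinement. -/
theorem refinement_of_le_imageSubobject {B X : V} (Y : Subobject B) (f : X ⟶ B)
    (h : Y ≤ imageSubobject f) {A : V} (x : A ⟶ (Y : V)) :
    ∃ (A' : V) (p : A' ⟶ A) (_ : Epi p) (z : A' ⟶ X), p ≫ x ≫ Y.arrow = z ≫ f := by
  obtain ⟨A', p, hp, z, hz⟩ := surjective_up_to_refinements_of_epi
    (factorThruImageSubobject f) (x ≫ Subobject.ofLE _ _ h)
  refine ⟨A', p, hp, z, ?_⟩
  have := congrArg (· ≫ (imageSubobject f).arrow) hz
  simp only [Category.assoc, Subobject.ofLE_arrow, imageSubobject_arrow_comp] at this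
  exact this

/-- A monomorphism is the kernel of its cokernel: lifting property. -/
theorem exists_lift_of_comp_cokernel_π_eq_zero {B : V} (Y : Subobject B) {A : V} (k : A ⟶ B)
    (hk : k ≫ cokernel.π Y.arrow = 0) : ∃ l : A ⟶ (Y : V), l ≫ Y.arrow = k := by
  have hm : Mono (ShortComplex.cokernelSequence Y.arrow).f := by
    change Mono Y.arrow; infer_instance
  exact (ShortComplex.cokernelSequence_exact Y.arrow).lift' k hk

end Groth.Agent.Lib.Helper74
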