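import Mathlib
import Groth.Prelude.Def_SGA4c
import Groth.Agent.Lib.Helper74.ToposFilt

/-!
# Finitely presentable objects of a topos of sheaves of sets
-/

set_option autoImplicit false
set_option linter.unusedSectionVars false
universe u
open CategoryTheory CategoryTheory.Limits Opposite

namespace Groth.Agent.Lib.Helper74.ToposFP

open Groth.Agent.Lib.Helper28 Groth.Agent.Lib.Helper74.ToposFilt

variable {C : Type u} [SmallCategory C] {J : GrothendieckTopology C}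

/-- elementwise form of the injectivity of `colim Hom(X, D) ⟶ Hom(X, colim D)` -/
def PostInj (X : ToposFin.Sh J) : Prop :=
  ∀ (I : Type u) [SmallCategory I] [IsFiltered I] (D : I ⥤ ToposFin.Sh J) (j j' : I)
    (f : X ⟶ D.obj j) (f' : X ⟶ D.obj j'), f ≫ colimit.ι D j = f' ≫ colimit.ι D j' →
    ∃ (k : I) (φ : j ⟶ k) (φ' : j' ⟶ k), f ≫ D.map φ = f' ≫ D.map φ'

/-- elementwise form of the surjectivity of `colim Hom(X, D) ⟶ Hom(X, colim D)` -/
def PostSurj (X : ToposFin.Sh J) : Prop :=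
  ∀ (I : Type u) [SmallCategory I] [IsFiltered I] (D : I ⥤ ToposFin.Sh J) (g : X ⟶ colimit D),
    ∃ (j : I) (t : X ⟶ D.obj j), t ≫ colimit.ι D j = g

lemma post_injective_iff (X : ToposFin.Sh J) (I : Type u) [SmallCategory I] [IsFiltered I]
    (D : I ⥤ ToposFin.Sh J) :
    Function.Injective (colimit.post D (coyoneda.obj (op X))) ↔
      ∀ (j j' : I) (f : X ⟶ D.obj j) (f' : X ⟶ D.obj j'),
        f ≫ colimit.ι D j = f' ≫ colimit.ι D j' →
        ∃ (k : I) (φ : j ⟶ k) (φ' : j' ⟶ k), f ≫ D.map φ = f' ≫ D.map φ' := by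
  constructor
  · intro h j j' f f' hff'
    have h1 : colimit.ι (D ⋙ coyoneda.obj (op X)) j f =
        colimit.ι (D ⋙ coyoneda.obj (op X)) j' f' := by
      apply h
      rw [post_ι, post_ι]
      exact hff'
    rw [Types.FilteredColimit.colimit_eq_iff] at h1
    exact h1
  · intro h a b hab
    obtain ⟨i, f, rfl⟩ := Types.jointly_surjective' a
    obtain ⟨i', f', rfl⟩ := Types.jointly_surjective' b
    rw [post_ι, post_ι] at hab
    rw [Types.FilteredColimit.colimit_eq_iff]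
    exact h i i' f f' hab

lemma post_surjective_iff (X : ToposFin.Sh J) (I : Type u) [SmallCategory I] [IsFiltered I]
    (D : I ⥤ ToposFin.Sh J) :
    Function.Surjective (colimit.post D (coyoneda.obj (op X))) ↔
      ∀ g : X ⟶ colimit D, ∃ (j : I) (t : X ⟶ D.obj j), t ≫ colimit.ι D j = g := by
  constructor
  · intro h g
    obtain ⟨a, ha⟩ := h g
    obtain ⟨j, t, rfl⟩ := Types.jointly_surjective' a
    rw [post_ι] at ha
    exact ⟨j, t, ha⟩
  · intro h g
    obtain ⟨j, t, ht⟩ := h g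
    exact ⟨colimit.ι (D ⋙ coyoneda.obj (op X)) j t, by rw [post_ι]; exact ht⟩

lemma isFP_iff (X : ToposFin.Sh J) : ToposFin.IsFP X ↔ PostInj X ∧ PostSurj X := by
  constructor
  · intro h
    exact ⟨fun I _ _ D => (post_injective_iff X I D).mp (h I D).1,
      fun I _ _ D => (post_surjective_iff X I D).mp (h I D).2⟩
  · rintro ⟨h1, h2⟩ I _ _ D
    exact ⟨(post_injective_iff X I D).mpr (h1 I D), (post_surjective_iff X I D).mpr (h2 I D)⟩

lemma isQC_iff_postInj (X : ToposFin.Sh J) : ToposFin.IsQC X ↔ PostInj X := by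
  constructor
  · intro h I _ _ D
    exact (post_injective_iff X I D).mp (post_injective_of_isQC h I D)
  · intro h
    exact isQC_of_post_injective X (fun I _ _ D => (post_injective_iff X I D).mpr (h I D))

/-- same index version of `PostInj` -/
lemma PostInj.exists_eq {X : ToposFin.Sh J} (h : PostInj X) {I : Type u} [SmallCategory I]
    [IsFiltered I] (D : I ⥤ ToposFin.Sh J) (j : I) (f f' : X ⟶ D.obj j)
    (hff' : f ≫ colimit.ι D j = f' ≫ colimit.ι D j) :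
    ∃ (k : I) (ψ : j ⟶ k), f ≫ D.map ψ = f' ≫ D.map ψ := by
  obtain ⟨k, φ, φ', hφ⟩ := h I D j j f f' hff'
  refine ⟨IsFiltered.coeq φ φ', φ ≫ IsFiltered.coeqHom φ φ', ?_⟩
  conv_rhs => rw [IsFiltered.coeq_condition]
  rw [D.map_comp, D.map_comp, ← Category.assoc, ← Category.assoc, hφ]

lemma postInj_of_retract {X Q : ToposFin.Sh J} (i : X ⟶ Q) (p : Q ⟶ X) (h : i ≫ p = 𝟙 X)
    (hQ : PostInj Q) : PostInj X := by
  intro I _ _ D j j' f f' hff'
  obtain ⟨k, φ, φ', hφ⟩ := hQ I D j j' (p ≫ f) (p ≫ f') (by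
    rw [Category.assoc, Category.assoc, hff'])
  refine ⟨k, φ, φ', ?_⟩
  have := congr_arg (fun m => i ≫ m) hφ
  simpa only [← Category.assoc, h, Category.id_comp] using this

lemma postSurj_of_retract {X Q : ToposFin.Sh J} (i : X ⟶ Q) (p : Q ⟶ X) (h : i ≫ p = 𝟙 X)
    (hQ : PostSurj Q) : PostSurj X := by
  intro I _ _ D g
  obtain ⟨j, t, ht⟩ := hQ I D (p ≫ g)
  exact ⟨j, i ≫ t, by rw [Category.assoc, ht, ← Category.assoc, h, Category.id_comp]⟩

lemma postInj_of_epi {X₀ Q : ToposFin.Sh J} (π : X₀ ⟶ Q) [Epi π] (h₀ : PostInj X₀) :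
    PostInj Q := by
  intro I _ _ D j j' f f' hff'
  obtain ⟨k, φ, φ', hφ⟩ := h₀ I D j j' (π ≫ f) (π ≫ f') (by
    rw [Category.assoc, Category.assoc, hff'])
  refine ⟨k, φ, φ', ?_⟩
  rw [← cancel_epi π]
  simpa only [Category.assoc] using hφ

lemma postSurj_coequalizer {X₁ X₀ : ToposFin.Sh J} (a b : X₁ ⟶ X₀) (h₀ : PostSurj X₀)
    (h₁ : PostInj X₁) : PostSurj (coequalizer a b) := by
  intro I _ _ D g
  obtain ⟨j, t, ht⟩ := h₀ I D (coequalizer.π a b ≫ g)
  have h2 : (a ≫ t) ≫ colimit.ι D j = (b ≫ t) ≫ colimit.ι D j := by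
    rw [Category.assoc, Category.assoc, ht, ← Category.assoc, ← Category.assoc,
      coequalizer.condition]
  obtain ⟨k, ψ, hψ⟩ := h₁.exists_eq D j _ _ h2
  have h3 : a ≫ (t ≫ D.map ψ) = b ≫ (t ≫ D.map ψ) := by
    simpa only [Category.assoc] using hψ
  refine ⟨k, coequalizer.desc (t ≫ D.map ψ) h3, ?_⟩
  rw [← cancel_epi (coequalizer.π a b), ← Category.assoc, coequalizer.π_desc, Category.assoc,
    colimit.w, ht]

section quotients

variable {P R : ToposFin.Sh J} (r₁ r₂ : R ⟶ P) {Γ : Type u} (L : Γ → ToposFin.Sh J)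
  (l : ∀ γ, L γ ⟶ R)

/-- first map from the coproduct of a finite subfamily of relations -/
noncomputable abbrev pa (B : Finset Γ) : (∐ fun γ : B => L γ) ⟶ P :=
  Sigma.desc (fun γ : B => l γ ≫ r₁)

/-- second map from the coproduct of a finite subfamily of relations -/
noncomputable abbrev pb (B : Finset Γ) : (∐ fun γ : B => L γ) ⟶ P :=
  Sigma.desc (fun γ : B => l γ ≫ r₂)

lemma ι_comp_coequalizer (B : Finset Γ) (γ : Γ) (hγ : γ ∈ B) :
    l γ ≫ r₁ ≫ coequalizer.π (pa r₁ L l B) (pb r₂ L l B) =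
      l γ ≫ r₂ ≫ coequalizer.π (pa r₁ L l B) (pb r₂ L l B) := by
  have h1 : l γ ≫ r₁ = Sigma.ι (fun γ : B => L γ) ⟨γ, hγ⟩ ≫ pa r₁ L l B := by
    rw [Sigma.ι_desc]
  have h2 : l γ ≫ r₂ = Sigma.ι (fun γ : B => L γ) ⟨γ, hγ⟩ ≫ pb r₂ L l B := by
    rw [Sigma.ι_desc]
  rw [← Category.assoc, ← Category.assoc, h1, h2, Category.assoc, Category.assoc,
    coequalizer.condition]

lemma pa_comp_eq {B B' : Finset Γ} (h : B ≤ B') :
    pa r₁ L l B ≫ coequalizer.π (pa r₁ L l B') (pb r₂ L l B') =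
      pb r₂ L l B ≫ coequalizer.π (pa r₁ L l B') (pb r₂ L l B') := by
  apply Sigma.hom_ext
  intro γ
  rw [← Category.assoc, ← Category.assoc, Sigma.ι_desc, Sigma.ι_desc, Category.assoc,
    Category.assoc]
  exact ι_comp_coequalizer r₁ r₂ L l B' γ.1 (h γ.2)

/-- the filtered diagram of partial quotients -/
noncomputable def quotients : Finset Γ ⥤ ToposFin.Sh J where
  obj B := coequalizer (pa r₁ L l B) (pb r₂ L l B)
  map {B B'} φ := coequalizer.desc (coequalizer.π _ _) (pa_comp_eq r₁ r₂ L l (leOfHom φ))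
  map_id B := by
    apply coequalizer.hom_ext
    rw [coequalizer.π_desc, Category.comp_id]
  map_comp φ ψ := by
    apply coequalizer.hom_ext
    rw [coequalizer.π_desc, ← Category.assoc, coequalizer.π_desc, coequalizer.π_desc]

/-- the projection to a partial quotient -/
noncomputable def πq (B : Finset Γ) : P ⟶ (quotients r₁ r₂ L l).obj B :=
  coequalizer.π (pa r₁ L l B) (pb r₂ L l B)

lemma πq_map {B B' : Finset Γ} (φ : B ⟶ B') :
    πq r₁ r₂ L l B ≫ (quotients r₁ r₂ L l).map φ = πq r₁ r₂ L l B' :=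
  coequalizer.π_desc _ _

lemma quot_hom_ext {B : Finset Γ} {Z : ToposFin.Sh J} (a b : (quotients r₁ r₂ L l).obj B ⟶ Z)
    (h : πq r₁ r₂ L l B ≫ a = πq r₁ r₂ L l B ≫ b) : a = b :=
  coequalizer.hom_ext h

lemma l_comp_πq (B : Finset Γ) (γ : Γ) (hγ : γ ∈ B) :
    l γ ≫ r₁ ≫ πq r₁ r₂ L l B = l γ ≫ r₂ ≫ πq r₁ r₂ L l B :=
  ι_comp_coequalizer r₁ r₂ L l B γ hγ

/-- maps out of a partial quotient -/
noncomputable def descq (B : Finset Γ) {Z : ToposFin.Sh J} (m : P ⟶ Z) (h : r₁ ≫ m = r₂ ≫ m) :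
    (quotients r₁ r₂ L l).obj B ⟶ Z :=
  coequalizer.desc m (by
    apply Sigma.hom_ext
    intro γ
    rw [← Category.assoc, ← Category.assoc, Sigma.ι_desc, Sigma.ι_desc, Category.assoc,
      Category.assoc, h])

lemma πq_descq (B : Finset Γ) {Z : ToposFin.Sh J} (m : P ⟶ Z) (h : r₁ ≫ m = r₂ ≫ m) :
    πq r₁ r₂ L l B ≫ descq r₁ r₂ L l B m h = m :=
  coequalizer.π_desc _ _

/-- the cocone of partial quotients over a morphism coequalizing the relation -/
noncomputable def quotCocone {Z : ToposFin.Sh J} (m : P ⟶ Z) (h : r₁ ≫ m = r₂ ≫ m) :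
    Cocone (quotients r₁ r₂ L l) where
  pt := Z
  ι :=
    { app := fun B => descq r₁ r₂ L l B m h
      naturality := fun B B' φ => by
        apply quot_hom_ext
        rw [← Category.assoc, πq_map, πq_descq]
        erw [Category.comp_id]
        rw [πq_descq] }

/-- the induced map out of the colimit of the partial quotients -/
noncomputable def colimDesc {Z : ToposFin.Sh J} (m : P ⟶ Z) (h : r₁ ≫ m = r₂ ≫ m) :
    colimit (quotients r₁ r₂ L l) ⟶ Z :=
  colimit.desc _ (quotCocone r₁ r₂ L l m h)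

lemma ι_colimDesc (B : Finset Γ) {Z : ToposFin.Sh J} (m : P ⟶ Z) (h : r₁ ≫ m = r₂ ≫ m) :
    colimit.ι (quotients r₁ r₂ L l) B ≫ colimDesc r₁ r₂ L l m h = descq r₁ r₂ L l B m h :=
  colimit.ι_desc _ _

lemma πq_ι (B : Finset Γ) :
    πq r₁ r₂ L l B ≫ colimit.ι (quotients r₁ r₂ L l) B =
      πq r₁ r₂ L l ∅ ≫ colimit.ι (quotients r₁ r₂ L l) ∅ := by
  have hB : (∅ : Finset Γ) ≤ B := Finset.empty_subset _
  rw [← colimit.w (quotients r₁ r₂ L l) (homOfLE hB), ← Category.assoc, πq_map]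

end quotients

lemma isGenerating_of_hasCoherentGenerators (hE : ToposFin.HasCoherentGenerators J) :
    ToposFin.IsGenerating {K : ToposFin.Sh J | ToposFin.IsCoherent K} := by
  intro X
  obtain ⟨ι, F, π, hF, hπ⟩ := hE X
  exact ⟨ι, F, π, hF, (epi_sigmaDesc_iff π).mp hπ⟩

lemma hasQCGenerators_of_hasCoherentGenerators (hE : ToposFin.HasCoherentGenerators J) :
    ToposFin.HasQCGenerators J := by
  intro X
  obtain ⟨ι, F, π, hF, hπ⟩ := hE X
  exact ⟨ι, F, π, fun i => (hF i).1, hπ⟩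

/-- a finite coproduct of coherent objects is coherent -/
lemma isCoherent_sigma {κ : Type u} [Finite κ] (M : κ → ToposFin.Sh J)
    (hM : ∀ k, ToposFin.IsCoherent (M k)) : ToposFin.IsCoherent (∐ M) :=
  ⟨isQC_of_isColimit_cofan (Cofan.mk (∐ M) (Sigma.ι M)) (coproductIsCoproduct M)
      (fun k => (hM k).1),
    isQS_of_isColimit_cofan (Cofan.mk (∐ M) (Sigma.ι M)) (coproductIsCoproduct M)
      (fun k => (hM k).2)⟩

/-- a finitely presentable object is a retract of a coequalizer of coherent objects -/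
lemma exists_retract_of_isFP (hE : ToposFin.HasCoherentGenerators J) {X : ToposFin.Sh J}
    (hX : ToposFin.IsFP X) :
    ∃ (X₀ X₁ : ToposFin.Sh J) (a b : X₁ ⟶ X₀) (i : X ⟶ coequalizer a b)
      (p : coequalizer a b ⟶ X), ToposFin.IsCoherent X₀ ∧ ToposFin.IsCoherent X₁ ∧ i ≫ p = 𝟙 X := by
  classical
  have hgen := isGenerating_of_hasCoherentGenerators hE
  obtain ⟨hinj, hsurj⟩ := (isFP_iff X).mp hX
  have hXqc : ToposFin.IsQC X := (isQC_iff_postInj X).mpr hinj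
  obtain ⟨κ, hκ, M, μ, hM, hμ⟩ := exists_finite_cover hgen hXqc
  have hP : ToposFin.IsCoherent (∐ M) := isCoherent_sigma M hM
  have hμepi : Epi (Sigma.desc μ) := (epi_sigmaDesc_iff μ).mpr hμ
  obtain ⟨μ', hμ'⟩ : ∃ μ' : ∐ M ⟶ X, μ' = Sigma.desc μ := ⟨_, rfl⟩
  rw [← hμ'] at hμepi
  obtain ⟨Γ, L, l, hL, hl⟩ := hgen (pullback μ' μ')
  obtain ⟨r₁, hr₁⟩ : ∃ r₁ : pullback μ' μ' ⟶ ∐ M, r₁ = pullback.fst μ' μ' := ⟨_, rfl⟩
  obtain ⟨r₂, hr₂⟩ : ∃ r₂ : pullback μ' μ' ⟶ ∐ M, r₂ = pullback.snd μ' μ' := ⟨_, rfl⟩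
  have hr : r₁ ≫ μ' = r₂ ≫ μ' := by rw [hr₁, hr₂, pullback.condition]
  -- the map `P ⟶ colim`
  obtain ⟨ζ, hζ⟩ : ∃ ζ : ∐ M ⟶ colimit (quotients r₁ r₂ L l),
      ∀ B, πq r₁ r₂ L l B ≫ colimit.ι (quotients r₁ r₂ L l) B = ζ :=
    ⟨_, fun B => πq_ι r₁ r₂ L l B⟩
  have hζr : r₁ ≫ ζ = r₂ ≫ ζ := by
    apply hl
    intro γ
    rw [← hζ {γ}]
    have := l_comp_πq r₁ r₂ L l {γ} γ (Finset.mem_singleton_self γ)
    calc l γ ≫ r₁ ≫ πq r₁ r₂ L l {γ} ≫ colimit.ι (quotients r₁ r₂ L l) {γ}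
        = (l γ ≫ r₁ ≫ πq r₁ r₂ L l {γ}) ≫ colimit.ι (quotients r₁ r₂ L l) {γ} := by
          simp only [Category.assoc]
      _ = (l γ ≫ r₂ ≫ πq r₁ r₂ L l {γ}) ≫ colimit.ι (quotients r₁ r₂ L l) {γ} := by rw [this]
      _ = l γ ≫ r₂ ≫ πq r₁ r₂ L l {γ} ≫ colimit.ι (quotients r₁ r₂ L l) {γ} := by
          simp only [Category.assoc]
  have heff : EffectiveEpi μ' :=
    (isRegularEpi_iff_effectiveEpi _).mp (IsRegularEpiCategory.regularEpiOfEpi _)
  have hcol := isColimitCoforkOfEffectiveEpi μ' _ (pullbackIsPullback μ' μ')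
  have hζr' : pullback.fst μ' μ' ≫ ζ = pullback.snd μ' μ' ≫ ζ := by
    rw [← hr₁, ← hr₂]; exact hζr
  obtain ⟨g, hg⟩ : ∃ g : X ⟶ colimit (quotients r₁ r₂ L l), μ' ≫ g = ζ :=
    ⟨Cofork.IsColimit.desc hcol ζ hζr', Cofork.IsColimit.π_desc' hcol _ _⟩
  obtain ⟨B, t, ht⟩ := hsurj (Finset Γ) (quotients r₁ r₂ L l) g
  have hgq : g ≫ colimDesc r₁ r₂ L l μ' hr = 𝟙 X := by
    rw [← cancel_epi μ', ← Category.assoc, hg, Category.comp_id, ← hζ ∅, Category.assoc,
      ι_colimDesc, πq_descq]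
  have key : t ≫ descq r₁ r₂ L l B μ' hr = 𝟙 X := by
    rw [← ι_colimDesc, ← Category.assoc, ht, hgq]
  exact ⟨∐ M, ∐ fun γ : B => L γ, pa r₁ L l B, pb r₂ L l B, t, descq r₁ r₂ L l B μ' hr, hP,
    isCoherent_sigma _ (fun γ => hL γ), key⟩

/-- coherent objects are finitely presentable -/
lemma isFP_of_isCoherent (hE : ToposFin.HasQCGenerators J) {X : ToposFin.Sh J}
    (hX : ToposFin.IsCoherent X) : ToposFin.IsFP X :=
  fun I _ _ D => post_bijective_of_isCoherent hE hX I D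

/-- a coequalizer of finitely presentable objects is finitely presentable -/
lemma isFP_coequalizer {X₀ X₁ : ToposFin.Sh J} (a b : X₁ ⟶ X₀) (h₀ : ToposFin.IsFP X₀)
    (h₁ : ToposFin.IsFP X₁) : ToposFin.IsFP (coequalizer a b) := by
  obtain ⟨inj₀, surj₀⟩ := (isFP_iff X₀).mp h₀
  obtain ⟨inj₁, -⟩ := (isFP_iff X₁).mp h₁
  exact (isFP_iff _).mpr ⟨postInj_of_epi (coequalizer.π a b) inj₀,
    postSurj_coequalizer a b surj₀ inj₁⟩

/-- a retract of a finitely presentable object is finitely presentable -/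
lemma isFP_of_retract {X Q : ToposFin.Sh J} (i : X ⟶ Q) (p : Q ⟶ X) (h : i ≫ p = 𝟙 X)
    (hQ : ToposFin.IsFP Q) : ToposFin.IsFP X := by
  obtain ⟨inj, surj⟩ := (isFP_iff Q).mp hQ
  exact (isFP_iff X).mpr ⟨postInj_of_retract i p h inj, postSurj_of_retract i p h surj⟩

/-- SGA 4 VI 1.24: finitely presentable objects are the retracts of coequalizers of coherent
objects -/
theorem isFP_iff_retract (hE : ToposFin.HasCoherentGenerators J) (X : ToposFin.Sh J) :
    ToposFin.IsFP X ↔ ∃ (X₀ X₁ : ToposFin.Sh J) (a b : X₁ ⟶ X₀) (i : X ⟶ coequalizer a b)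
      (p : coequalizer a b ⟶ X), ToposFin.IsCoherent X₀ ∧ ToposFin.IsCoherent X₁ ∧ i ≫ p = 𝟙 X := by
  have hQC := hasQCGenerators_of_hasCoherentGenerators hE
  constructor
  · exact exists_retract_of_isFP hE
  · rintro ⟨X₀, X₁, a, b, i, p, h₀, h₁, hip⟩
    exact isFP_of_retract i p hip
      (isFP_coequalizer a b (isFP_of_isCoherent hQC h₀) (isFP_of_isCoherent hQC h₁))

/-- a retract of a coherent object is coherent -/
lemma isCoherent_of_retract {X Q : ToposFin.Sh J} (i : X ⟶ Q) (p : Q ⟶ X) (h : i ≫ p = 𝟙 X)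
    (hQ : ToposFin.IsCoherent Q) : ToposFin.IsCoherent X := by
  have hp : IsSplitEpi p := ⟨⟨⟨i, h⟩⟩⟩
  have hi : IsSplitMono i := ⟨⟨⟨p, h⟩⟩⟩
  exact ⟨isQC_of_epi p hQ.1, isQS_of_isQSHom (isQSHom_of_mono i) hQ.2⟩

/-- an object with an epimorphism from `P` whose kernel pair is covered by `L` is the
coequalizer of `L ⇉ P` -/
noncomputable def isColimitCoforkOfEpiCover {P X L : ToposFin.Sh J} (μ : P ⟶ X) [Epi μ]
    (ν : L ⟶ pullback μ μ) [Epi ν] :
    IsColimit (Cofork.ofπ μ (show (ν ≫ pullback.fst μ μ) ≫ μ = (ν ≫ pullback.snd μ μ) ≫ μ by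
      rw [Category.assoc, Category.assoc, pullback.condition])) := by
  have heff : EffectiveEpi μ :=
    (isRegularEpi_iff_effectiveEpi _).mp (IsRegularEpiCategory.regularEpiOfEpi _)
  have hcol := isColimitCoforkOfEffectiveEpi μ _ (pullbackIsPullback μ μ)
  refine Cofork.IsColimit.mk' _ (fun s => ?_)
  have hs : pullback.fst μ μ ≫ s.π = pullback.snd μ μ ≫ s.π := by
    rw [← cancel_epi ν]
    simpa only [Category.assoc] using s.condition
  refine ⟨Cofork.IsColimit.desc hcol s.π hs, Cofork.IsColimit.π_desc' hcol _ _, ?_⟩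
  intro m hm
  rw [← cancel_epi μ]
  exact hm.trans (Cofork.IsColimit.π_desc' hcol _ _).symm

end Groth.Agent.Lib.Helper74.ToposFP
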