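import Mathlib
import Groth.Prelude.Def_SGA4c
import Groth.Agent.Lib.Helper74.ToposFP

/-!
# Locally coherent topoi are locally finitely presentable
-/

set_option autoImplicit false
set_option linter.unusedSectionVars false
universe u
open CategoryTheory CategoryTheory.Limits Opposite

namespace Groth.Agent.Lib.Helper74.ToposLFP

open Groth.Agent.Lib.Helper28 Groth.Agent.Lib.Helper74.ToposFilt Groth.Agent.Lib.Helper74.ToposFP
open Groth.Agent.Lib.Helper74.CanonicalTopos

variable {C : Type u} [SmallCategory C] {J : GrothendieckTopology C}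

attribute [local instance] Cardinal.fact_isRegular_aleph0

/-- the prelude's finite presentability is `ℵ₀`-presentability in Mathlib's sense -/
lemma isFP_iff_isCardinalPresentable (X : ToposFin.Sh J) :
    ToposFin.IsFP X ↔ IsCardinalPresentable X Cardinal.aleph0.{u} := by
  constructor
  · intro h
    rw [isCardinalPresentable_iff_isCardinalAccessible_coyoneda_obj]
    constructor
    intro I _ hI
    have : IsFiltered I := isFiltered_of_isCardinalFiltered I Cardinal.aleph0.{u}
    constructor
    intro D
    have : IsIso (colimit.post D (coyoneda.obj (op X))) := (isIso_iff_bijective _).mpr (h I D)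
    exact preservesColimit_of_isIso_post _ _
  · intro h I _ _ D
    have : IsCardinalFiltered I Cardinal.aleph0.{u} := (isCardinalFiltered_aleph0_iff I).mpr inferInstance
    have := preservesColimitsOfShape_of_isCardinalPresentable X Cardinal.aleph0.{u} I
    have : IsIso (colimit.post D (coyoneda.obj (op X))) := inferInstance
    exact (isIso_iff_bijective _).mp this

/-- under the hypothesis that finitely presentable objects are coherent, every object is a
filtered colimit of coherent objects -/
lemma exists_filtered_colimit_coherent (hE : ToposFin.HasCoherentGenerators J)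
    (h3 : ∀ X : ToposFin.Sh J, ToposFin.IsFP X → ToposFin.IsCoherent X) (X : ToposFin.Sh J) :
    ∃ (I : Type u) (_ : SmallCategory I) (_ : IsFiltered I) (D : I ⥤ ToposFin.Sh J),
      (∀ i, ToposFin.IsCoherent (D.obj i)) ∧ Nonempty (X ≅ colimit D) := by
  have hQC := hasQCGenerators_of_hasCoherentGenerators hE
  choose A K π hK hπ using fun c : C => hE ((gen J).obj c)
  have hπ' : ∀ c, JointlyEpi (π c) := fun c => (epi_sigmaDesc_iff (π c)).mp (hπ c)
  let P : ObjectProperty (ToposFin.Sh J) := ObjectProperty.ofObj (fun x : Σ c, A c => K x.1 x.2)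
  have hP1 : P.IsStrongGenerator := by
    rw [ObjectProperty.isStrongGenerator_iff]
    constructor
    · intro Y Z a b hab
      apply hom_ext_gen
      intro T σ
      apply hπ' T
      intro α
      have := hab _ (ObjectProperty.ofObj_apply (fun x : Σ c, A c => K x.1 x.2) ⟨T, α⟩)
        (π T α ≫ σ)
      simpa only [Category.assoc] using this
    · intro Y Z i _ hi
      have : Epi i := by
        constructor
        intro W a b hab
        apply hom_ext_gen
        intro T σ
        apply hπ' T
        intro α
        obtain ⟨f, hf⟩ := hi _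
          (ObjectProperty.ofObj_apply (fun x : Σ c, A c => K x.1 x.2) ⟨T, α⟩) (π T α ≫ σ)
        have hf' : f ≫ i = π T α ≫ σ := hf
        rw [← Category.assoc, ← Category.assoc, ← hf', Category.assoc, Category.assoc, hab]
      exact isIso_of_mono_of_epi i
  have hP2 : P ≤ isCardinalPresentable (ToposFin.Sh J) Cardinal.aleph0.{u} := by
    rintro _ ⟨x⟩
    exact (isFP_iff_isCardinalPresentable _).mp (isFP_of_isCoherent hQC (hK x.1 x.2))
  have hcolim : HasColimitsOfSize.{u, u} (ToposFin.Sh J) :=
    CategoryTheory.Sheaf.instHasColimitsOfSize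
  have hlp : IsCardinalLocallyPresentable (ToposFin.Sh J) Cardinal.aleph0.{u} :=
    (IsCardinalLocallyPresentable.iff_exists_isStrongGenerator (ToposFin.Sh J)
      Cardinal.aleph0.{u}).mpr ⟨P, inferInstance, hP1, hP2⟩
  obtain ⟨P', _, hP'⟩ :=
    HasCardinalFilteredGenerator.exists_small_generator (ToposFin.Sh J) Cardinal.aleph0.{u}
  obtain ⟨I, _, hI, ⟨p⟩⟩ := hP'.exists_colimitsOfShape X
  have hfilt : IsFiltered I := isFiltered_of_isCardinalFiltered I Cardinal.aleph0.{u}
  refine ⟨I, inferInstance, hfilt, p.diag, fun i => h3 _ ?_,
    ⟨IsColimit.coconePointUniqueUpToIso p.isColimit (colimit.isColimit p.diag)⟩⟩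
  exact (isFP_iff_isCardinalPresentable _).mpr (hP'.le_isCardinalPresentable _ (p.prop_diag_obj i))

end Groth.Agent.Lib.Helper74.ToposLFP
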