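import Mathlib

/-!
# Indecomposable injective objects of a Grothendieck abelian category are uniform (helper74)

`not_disj_of_indecomposable`: two nonzero subobjects of an indecomposable injective object of a
Grothendieck abelian category meet nontrivially.  The proof is the classical one: take `M` maximal
among the subobjects containing the second one and disjoint from the first (Zorn, `AB5`), then `N`
maximal among those containing the first and disjoint from `M`; `N ⟶ E/M` is an essential
monomorphism, injectivity of `E` gives a monomorphism `E/M ⟶ E` extending the inclusion of `N`,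
maximality of `N` shows `N ≅ E/M`, hence `E ≅ M ⊞ N`.
-/

set_option autoImplicit false
universe w v u

open CategoryTheory CategoryTheory.Limits

namespace Groth.Agent.Lib.Helper74.Uniform

variable {C : Type u} [Category.{v} C] [Abelian C]

/-- `a` and `b` are disjoint: a morphism factoring through both is zero -/
def Disj {E A B : C} (a : A ⟶ E) (b : B ⟶ E) : Prop :=
  ∀ ⦃Z : C⦄ (x : Z ⟶ A) (y : Z ⟶ B), x ≫ a = y ≫ b → x = 0

lemma Disj.symm {E A B : C} {a : A ⟶ E} {b : B ⟶ E} [Mono b] (h : Disj a b) : Disj b a := by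
  intro Z y x hyx
  have hx : x = 0 := h x y hyx.symm
  have h2 : y ≫ b = 0 ≫ b := by rw [hyx, hx, zero_comp, zero_comp]
  exact (cancel_mono b).1 h2

lemma Disj.of_fac {E A B A' B' : C} {a : A ⟶ E} {b : B ⟶ E} (h : Disj a b)
    {a' : A' ⟶ E} {b' : B' ⟶ E} (k : A' ⟶ A) [Mono k] (l : B' ⟶ B)
    (hk : k ≫ a = a') (hl : l ≫ b = b') : Disj a' b' := by
  intro Z x y hxy
  have h1 := h (x ≫ k) (y ≫ l) (by rw [Category.assoc, Category.assoc, hk, hl, hxy])
  exact (cancel_mono k).1 (by rw [h1, zero_comp])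

lemma disj_iff_mono {E A B : C} (a : A ⟶ E) (b : B ⟶ E) [Mono b] :
    Disj a b ↔ Mono (a ≫ cokernel.π b) := by
  constructor
  · intro h
    apply Preadditive.mono_of_cancel_zero
    intro Z g hg
    have hg' : (g ≫ a) ≫ cokernel.π b = 0 := by rw [Category.assoc, hg]
    exact h g (Abelian.monoLift b (g ≫ a) hg') (Abelian.monoLift_comp b (g ≫ a) hg').symm
  · intro h Z x y hxy
    have h1 : x ≫ (a ≫ cokernel.π b) = 0 ≫ (a ≫ cokernel.π b) := by
      rw [← Category.assoc, hxy, Category.assoc, cokernel.condition, comp_zero, zero_comp]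
    exact (cancel_mono _).1 h1

section Zorn

variable [IsGrothendieckAbelian.{w} C] {E B : C} (b : B ⟶ E) [Mono b]

/-- a nonempty chain of subobjects disjoint from `b` has an upper bound disjoint from `b` -/
lemma exists_upper_bound (c : Set (Subobject E)) (hc : IsChain (· ≤ ·) c) (hne : c.Nonempty)
    (hd : ∀ M ∈ c, Disj M.arrow b) :
    ∃ U : Subobject E, Disj U.arrow b ∧ ∀ M ∈ c, M ≤ U := by
  classical
  let J := Shrink.{w} c
  let e : c ≃ J := equivShrink c
  let val : J → Subobject E := fun j => (e.symm j).1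
  letI : Preorder J := Preorder.lift val
  letI : SmallCategory J := Preorder.smallCategory J
  haveI : Nonempty J := ⟨e ⟨hne.some, hne.some_mem⟩⟩
  haveI : IsDirectedOrder J := ⟨fun i j => by
    rcases hc.total (e.symm i).2 (e.symm j).2 with h | h
    · exact ⟨j, h, le_rfl⟩
    · exact ⟨i, le_rfl, h⟩⟩
  haveI : IsFiltered J := isFiltered_of_directed_le_nonempty J
  haveI : HasColimitsOfShape J C := HasFilteredColimitsOfSize.HasColimitsOfShape J
  haveI hm : ∀ j : J, Mono ((val j).arrow ≫ cokernel.π b) :=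
    fun j => (disj_iff_mono _ b).1 (hd _ (e.symm j).2)
  let F : J ⥤ MonoOver E :=
    { obj := fun j => MonoOver.mk (val j).arrow
      map := fun {i j} h => MonoOver.homMk (Subobject.ofLE _ _ (leOfHom h : i ≤ j))
        (Subobject.ofLE_arrow _)
      map_id := fun _ => Subsingleton.elim _ _
      map_comp := fun _ _ => Subsingleton.elim _ _ }
  let F' : J ⥤ MonoOver (cokernel b) :=
    { obj := fun j => MonoOver.mk ((val j).arrow ≫ cokernel.π b)
      map := fun {i j} h => MonoOver.homMk (Subobject.ofLE _ _ (leOfHom h : i ≤ j)) (by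
        show Subobject.ofLE _ _ (leOfHom h : i ≤ j) ≫ (val j).arrow ≫ cokernel.π b =
          (val i).arrow ≫ cokernel.π b
        rw [← Category.assoc, Subobject.ofLE_arrow])
      map_id := fun _ => Subsingleton.elim _ _
      map_comp := fun _ _ => Subsingleton.elim _ _ }
  let D := F ⋙ MonoOver.forget _ ⋙ Over.forget _
  let f : colimit D ⟶ E := colimit.desc D ⟨E,
    { app := fun j => (val j).arrow
      naturality := fun i j h => by
        show Subobject.ofLE _ _ (leOfHom h : i ≤ j) ≫ (val j).arrow = (val i).arrow ≫ 𝟙 E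
        rw [Subobject.ofLE_arrow, Category.comp_id] }⟩
  have hf : ∀ j, colimit.ι D j ≫ f = (F.obj j).obj.hom := fun j => colimit.ι_desc _ _
  haveI hmono : Mono f :=
    IsGrothendieckAbelian.mono_of_isColimit_monoOver F (colimit.isColimit D) f hf
  haveI hmono' : Mono (f ≫ cokernel.π b) :=
    IsGrothendieckAbelian.mono_of_isColimit_monoOver F' (c := colimit.cocone D)
      (colimit.isColimit D) (f ≫ cokernel.π b) (fun j => by
        show colimit.ι D j ≫ f ≫ cokernel.π b = (val j).arrow ≫ cokernel.π b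
        rw [← Category.assoc, hf]
        rfl)
  refine ⟨Subobject.mk f, ?_, ?_⟩
  · rw [disj_iff_mono]
    have h1 : (Subobject.mk f).arrow = (Subobject.underlyingIso f).hom ≫ f :=
      (Subobject.underlyingIso_hom_comp_eq_mk f).symm
    rw [h1, Category.assoc]
    infer_instance
  · intro M hM
    obtain ⟨j, rfl⟩ : ∃ j, val j = M := ⟨e ⟨M, hM⟩, by simp [val]⟩
    exact Subobject.le_mk_of_comm (colimit.ι D j) (hf j)

/-- Zorn: maximal subobjects disjoint from `b` above a given one -/
lemma exists_maximal_disj (I : Subobject E) (hI : Disj I.arrow b) :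
    ∃ M : Subobject E, I ≤ M ∧ Disj M.arrow b ∧
      ∀ M' : Subobject E, M ≤ M' → Disj M'.arrow b → M' ≤ M := by
  have key : ∀ c ⊆ {M : Subobject E | Disj M.arrow b}, IsChain (· ≤ ·) c → ∀ y ∈ c,
      ∃ ub ∈ {M : Subobject E | Disj M.arrow b}, ∀ z ∈ c, z ≤ ub := by
    intro c hcs hc y hy
    obtain ⟨U, hU, hle⟩ := exists_upper_bound.{w} b c hc ⟨y, hy⟩ (fun M hM => hcs hM)
    exact ⟨U, hU, hle⟩
  obtain ⟨M, hIM, hM⟩ := zorn_le_nonempty₀ {M : Subobject E | Disj M.arrow b} key I hI
  exact ⟨M, hIM, hM.1, fun M' hle hd => hM.2 hd hle⟩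

end Zorn

section Split

variable {E : C} [Injective E] (N M : Subobject E)
  (hD : Disj N.arrow M.arrow)
  (hMaxM : ∀ M' : Subobject E, M ≤ M' → Disj M'.arrow N.arrow → M' ≤ M)
  (hMaxN : ∀ N' : Subobject E, N ≤ N' → Disj N'.arrow M.arrow → N' ≤ N)

include hMaxM in
/-- `N ⟶ E/M` is essential -/
lemma essential {T : C} (t : T ⟶ cokernel M.arrow) [Mono t]
    (h : ∀ ⦃Z : C⦄ (x : Z ⟶ (N : C)) (y : Z ⟶ T),
      x ≫ N.arrow ≫ cokernel.π M.arrow = y ≫ t → x = 0) : t = 0 := by
  let q := cokernel.π M.arrow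
  let p₁ : pullback t q ⟶ T := pullback.fst t q
  let p₂ : pullback t q ⟶ E := pullback.snd t q
  have hcond : p₁ ≫ t = p₂ ≫ q := pullback.condition
  haveI : Mono p₂ := inferInstance
  haveI : Epi p₁ := inferInstance
  let k : (M : C) ⟶ pullback t q := pullback.lift 0 M.arrow (by
    rw [zero_comp, cokernel.condition])
  have hk : k ≫ p₂ = M.arrow := pullback.lift_snd _ _ _
  have hle : M ≤ Subobject.mk p₂ := Subobject.le_mk_of_comm k hk
  have hd0 : Disj p₂ N.arrow := by
    intro Z x y hxy
    have hy : y = 0 := by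
      apply h y (x ≫ p₁)
      rw [Category.assoc, hcond, ← Category.assoc, ← hxy, Category.assoc]
    rw [hy, zero_comp] at hxy
    exact (cancel_mono p₂).1 (by rw [hxy, zero_comp])
  have hd : Disj (Subobject.mk p₂).arrow N.arrow :=
    hd0.of_fac (Subobject.underlyingIso p₂).hom (𝟙 _)
      (Subobject.underlyingIso_hom_comp_eq_mk p₂) (Category.id_comp _)
  have hle' := hMaxM _ hle hd
  have h2 : p₂ ≫ q = 0 := by
    have e1 : p₂ = (Subobject.underlyingIso p₂).inv ≫ (Subobject.mk p₂).arrow := by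
      rw [← Subobject.underlyingIso_hom_comp_eq_mk p₂, Iso.inv_hom_id_assoc]
    rw [e1, ← Subobject.ofLE_arrow hle', Category.assoc, Category.assoc, cokernel.condition,
      comp_zero, comp_zero]
  have h3 : p₁ ≫ t = p₁ ≫ 0 := by rw [hcond, h2, comp_zero]
  exact (cancel_epi p₁).1 h3

include hD hMaxM hMaxN in
/-- `N ⟶ E/M` is an isomorphism -/
lemma isIso_comp_cokernel : IsIso (N.arrow ≫ cokernel.π M.arrow) := by
  let a := N.arrow
  let q := cokernel.π M.arrow
  let s := a ≫ q
  haveI hs : Mono s := (disj_iff_mono _ _).1 hD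
  let g : cokernel M.arrow ⟶ E := Injective.factorThru a s
  have hg : s ≫ g = a := Injective.comp_factorThru a s
  -- `g` is a monomorphism
  have hk0 : kernel.ι g = 0 := by
    apply essential N M hMaxM (kernel.ι g)
    intro Z x y hxy
    have h1 : x ≫ a = 0 := by
      have : x ≫ s ≫ g = 0 := by
        rw [← Category.assoc]
        show (x ≫ N.arrow ≫ cokernel.π M.arrow) ≫ g = 0
        rw [hxy, Category.assoc, kernel.condition, comp_zero]
      rw [hg] at this
      exact this
    exact (cancel_mono a).1 (by rw [h1, zero_comp])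
  haveI : Mono g := Preadditive.mono_of_kernel_zero hk0
  -- `g ≫ q` is a monomorphism
  have hk1 : kernel.ι (g ≫ q) = 0 := by
    apply essential N M hMaxM (kernel.ι (g ≫ q))
    intro Z x y hxy
    have h1 : x ≫ s = 0 := by
      have : (x ≫ s) ≫ g ≫ q = 0 := by
        show (x ≫ N.arrow ≫ cokernel.π M.arrow) ≫ g ≫ q = 0
        rw [hxy, Category.assoc, kernel.condition, comp_zero]
      rw [Category.assoc, ← Category.assoc s, hg] at this
      exact this
    exact (cancel_mono s).1 (by rw [h1, zero_comp])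
  haveI : Mono (g ≫ q) := Preadditive.mono_of_kernel_zero hk1
  have hdg : Disj g M.arrow := (disj_iff_mono _ _).2 inferInstance
  have hle : N ≤ Subobject.mk g := Subobject.le_mk_of_comm s hg
  have hd : Disj (Subobject.mk g).arrow M.arrow :=
    hdg.of_fac (Subobject.underlyingIso g).hom (𝟙 _)
      (Subobject.underlyingIso_hom_comp_eq_mk g) (Category.id_comp _)
  have hle' := hMaxN _ hle hd
  let r : cokernel M.arrow ⟶ (N : C) :=
    (Subobject.underlyingIso g).inv ≫ Subobject.ofLE _ _ hle'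
  have hr : r ≫ a = g := by
    show ((Subobject.underlyingIso g).inv ≫ Subobject.ofLE _ _ hle') ≫ N.arrow = g
    rw [Category.assoc, Subobject.ofLE_arrow, ← Subobject.underlyingIso_hom_comp_eq_mk g,
      Iso.inv_hom_id_assoc]
  have hsr : s ≫ r = 𝟙 _ := by
    apply (cancel_mono a).1
    rw [Category.assoc, hr, hg, Category.id_comp]
  haveI : Mono r := mono_of_mono_fac hr
  have hrs : r ≫ s = 𝟙 _ := by
    apply (cancel_mono r).1
    rw [Category.assoc, hsr, Category.comp_id, Category.id_comp]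
  exact ⟨r, hsr, hrs⟩

include hD hMaxM hMaxN in
/-- `E ≅ M ⊞ N` -/
lemma nonempty_iso_biprod : Nonempty (E ≅ (M : C) ⊞ (N : C)) := by
  haveI := isIso_comp_cokernel N M hD hMaxM hMaxN
  let s := N.arrow ≫ cokernel.π M.arrow
  let S : ShortComplex C := ShortComplex.mk M.arrow (cokernel.π M.arrow) (cokernel.condition _)
  have hS : S.Exact := ShortComplex.exact_cokernel M.arrow
  let σ : S.X₃ ⟶ S.X₂ := inv s ≫ N.arrow
  have hσ : σ ≫ S.g = 𝟙 S.X₃ := by
    show (inv s ≫ N.arrow) ≫ cokernel.π M.arrow = 𝟙 _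
    rw [Category.assoc]
    exact IsIso.inv_hom_id s
  let spl := ShortComplex.Splitting.ofExactOfSection S hS σ hσ (inferInstanceAs (Mono M.arrow))
  exact ⟨spl.isoBinaryBiproduct ≪≫ biprod.mapIso (Iso.refl _) (asIso s).symm⟩

end Split

/-- **uniformity of indecomposable injectives** -/
theorem not_disj_of_indecomposable [IsGrothendieckAbelian.{w} C] (E : C) [Injective E]
    (hind : ∀ (A B : C), Nonempty (E ≅ A ⊞ B) → IsZero A ∨ IsZero B)
    {I₁ I₂ : C} (i₁ : I₁ ⟶ E) (i₂ : I₂ ⟶ E) [Mono i₁] [Mono i₂] (h₁ : i₁ ≠ 0) (h₂ : i₂ ≠ 0) :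
    ¬ Disj i₁ i₂ := by
  intro hdisj
  -- `M` maximal above `I₂`, disjoint from `I₁`
  have hI₂ : Disj (Subobject.mk i₂).arrow i₁ :=
    hdisj.symm.of_fac (Subobject.underlyingIso i₂).hom (𝟙 _)
      (Subobject.underlyingIso_hom_comp_eq_mk i₂) (Category.id_comp _)
  obtain ⟨M, hI₂M, hMd, hMmax⟩ := exists_maximal_disj.{w} i₁ (Subobject.mk i₂) hI₂
  -- `N` maximal above `I₁`, disjoint from `M`
  have hI₁ : Disj (Subobject.mk i₁).arrow M.arrow :=
    hMd.symm.of_fac (Subobject.underlyingIso i₁).hom (𝟙 _)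
      (Subobject.underlyingIso_hom_comp_eq_mk i₁) (Category.id_comp _)
  obtain ⟨N, hI₁N, hNd, hNmax⟩ := exists_maximal_disj.{w} M.arrow (Subobject.mk i₁) hI₁
  -- `M` is also maximal among the subobjects disjoint from `N`
  have hMmax' : ∀ M' : Subobject E, M ≤ M' → Disj M'.arrow N.arrow → M' ≤ M := by
    intro M' hle hd
    apply hMmax M' hle
    have hfac : (Subobject.underlyingIso i₁).inv ≫ Subobject.ofLE _ _ hI₁N ≫ N.arrow = i₁ := by
      rw [Subobject.ofLE_arrow, ← Subobject.underlyingIso_hom_comp_eq_mk i₁,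
        Iso.inv_hom_id_assoc]
    exact hd.of_fac (𝟙 _) ((Subobject.underlyingIso i₁).inv ≫ Subobject.ofLE _ _ hI₁N)
      (Category.id_comp _) (by rw [Category.assoc]; exact hfac)
  obtain ⟨iso⟩ := nonempty_iso_biprod N M hNd hMmax' hNmax
  rcases hind _ _ ⟨iso⟩ with hz | hz
  · -- `M` is zero, so `i₂ = 0`
    apply h₂
    have hfac : (Subobject.underlyingIso i₂).inv ≫ Subobject.ofLE _ _ hI₂M ≫ M.arrow = i₂ := by
      rw [Subobject.ofLE_arrow, ← Subobject.underlyingIso_hom_comp_eq_mk i₂,
        Iso.inv_hom_id_assoc]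
    rw [← hfac, hz.eq_of_tgt (Subobject.ofLE _ _ hI₂M) 0, zero_comp, comp_zero]
  · apply h₁
    have hfac : (Subobject.underlyingIso i₁).inv ≫ Subobject.ofLE _ _ hI₁N ≫ N.arrow = i₁ := by
      rw [Subobject.ofLE_arrow, ← Subobject.underlyingIso_hom_comp_eq_mk i₁,
        Iso.inv_hom_id_assoc]
    rw [← hfac, hz.eq_of_tgt (Subobject.ofLE _ _ hI₁N) 0, zero_comp, comp_zero]

end Groth.Agent.Lib.Helper74.Uniform
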